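import Cfsg.Agent.Lib.LieRigid.SplitData
import Cfsg.Agent.Lib.Chev.DefectGroups

/-!
Root data of the finite Chevalley groups.
-/

set_option autoImplicit false
set_option linter.unusedSectionVars false
set_option linter.dupNamespace false

namespace CfsgLib.LieRigid

/-- The rank one relation from the one for the inverse conjugation. -/
theorem rankOne_of {G : Type*} [Group G] {U H : Subgroup G} {n x : G}
    (HU : ∀ h ∈ H, ∀ u ∈ U, h * u * h⁻¹ ∈ U) (hsq : n * n ∈ H)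
    (h1 : ∃ u ∈ U, ∃ h ∈ H, ∃ u' ∈ U, n * x * n⁻¹ = u * h * n * u') :
    ∃ u ∈ U, ∃ h ∈ H, ∃ u' ∈ U, n⁻¹ * x * n = u * h * n * u' := by
  obtain ⟨u, hu, h, hh, u', hu', e⟩ := h1
  refine ⟨(n * n)⁻¹ * u * (n * n), by simpa using HU _ (inv_mem hsq) u hu,
    (n * n)⁻¹ * h * (n * n), mul_mem (mul_mem (inv_mem hsq) hh) hsq,
    (n * n)⁻¹ * u' * (n * n), by simpa using HU _ (inv_mem hsq) u' hu', ?_⟩
  calc n⁻¹ * x * n = (n * n)⁻¹ * (n * x * n⁻¹) * (n * n) := by group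
    _ = _ := by rw [e]; group

end CfsgLib.LieRigid

namespace CfsgLib.Chev

open Cfsg.Lie Matrix CfsgLib.LieRigid

variable {D : ChevalleyDatum}

namespace Chev

variable (Φ : Chev D) {F : Type*} [Field F] [Finite F] (p : ℕ) [Fact p.Prime] [CharP F p]

theorem conj_root_mem {h : GL D.Idx F} (hh : h ∈ D.diagonalSubgroup F) {r : Fin D.nroots}
    {x : GL D.Idx F} (hx : x ∈ Φ.US F (· = r)) : h * x * h⁻¹ ∈ Φ.US F (· = r) :=
  (Subgroup.mem_normalizer_iff.1 (Φ.H_le_normalizer_US (F := F) (· = r) hh) x).1 hx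

theorem exists_xg_of_mem {r : Fin D.nroots} {x : GL D.Idx F} (hx : x ∈ Φ.US F (· = r)) :
    ∃ t, x = Φ.toAlg.xg r t := by
  induction hx using Subgroup.closure_induction with
  | mem y hy => obtain ⟨s, t, rfl, rfl⟩ := hy; exact ⟨t, rfl⟩
  | one => exact ⟨0, (Φ.toAlg.xg_zero r).symm⟩
  | mul y z _ _ hy hz =>
    obtain ⟨s, rfl⟩ := hy
    obtain ⟨t, rfl⟩ := hz
    exact ⟨s + t, (Φ.toAlg.xg_add r s t).symm⟩
  | inv y _ hy =>
    obtain ⟨s, rfl⟩ := hy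
    exact ⟨-s, (Φ.toAlg.xg_neg r s).symm⟩

theorem U_le_normalizer_out (J : Set (Fin D.rank)) :
    D.posUnipotent F ≤ Subgroup.normalizer (Φ.US F (Φ.Out J) : Set (GL D.Idx F)) := by
  rw [Φ.posUnipotent_eq_US, US, Subgroup.closure_le]
  rintro _ ⟨r, t, hr, rfl⟩
  by_cases hs : Φ.Sub J r
  · exact Φ.xg_mem_normalizer_out hs t
  · exact Subgroup.le_normalizer (Φ.xg_mem_US (Φ.out_iff_pos_and_not_sub.mpr ⟨hr, hs⟩) t)

theorem rigid_induct (C : ↥(D.group F) → Prop)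
    (hH : ∀ h ∈ (D.diagonalSubgroup F).subgroupOf (D.group F), C h)
    (hU : ∀ u ∈ (D.posUnipotent F).subgroupOf (D.group F), ∀ u' ∈ (D.posUnipotent F).subgroupOf (D.group F),
      ∀ g, C g → C (u * g * u'))
    (hs : ∀ (i : Fin D.rank) (m : ↥(D.group F)),
      (∀ h ∈ (D.diagonalSubgroup F).subgroupOf (D.group F), C (m * h)) →
      (∀ x ∈ (Φ.US F (· = Φ.p i)).subgroupOf (D.group F),
        m * x * m⁻¹ ∈ (D.posUnipotent F).subgroupOf (D.group F)) →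
      ∀ h ∈ (D.diagonalSubgroup F).subgroupOf (D.group F),
        C (m * h * ⟨Φ.nw (Φ.p i) 1, Φ.nw_mem_group _ _⟩))
    (g : ↥(D.group F)) : C g := by
  have key : ∀ (k : ℕ) (π : Equiv.Perm (Fin D.nroots)), Φ.inv π = k → π ∈ Φ.WL →
      ∀ n : ↥(D.group F), (n : GL D.Idx F) ∈ D.monomialSubgroup F → Φ.Mono (n : GL D.Idx F) π → C n := by
    intro k
    induction k using Nat.strong_induction_on with
    | _ k ih =>
      intro π hk hπ n hn hm
      by_cases h1 : π = 1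
      · subst h1
        exact hH n ((Φ.mem_H_iff_mono_one hn).mpr hm)
      obtain ⟨i, hi⟩ := Φ.exists_right_descent hπ h1
      set s : ↥(D.group F) := ⟨Φ.nw (Φ.p i) 1, Φ.nw_mem_group _ _⟩ with hs'
      have hsi : Φ.Mono (Φ.nw (Φ.p i) (1 : Fˣ))⁻¹ (Φ.reflPerm i) := by
        have := Φ.mono_inv (Φ.nw_mem_N (Φ.p i) 1) (Φ.nw_one_mono (F := F) i)
        rwa [Φ.reflPerm_inv'] at this
      have hn' : ((n * s⁻¹ : ↥(D.group F)) : GL D.Idx F) ∈ D.monomialSubgroup F :=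
        mul_mem hn (inv_mem (Φ.nw_mem_N _ _))
      have hm' : Φ.Mono ((n * s⁻¹ : ↥(D.group F)) : GL D.Idx F) (π * Φ.reflPerm i) := Mono.mul Φ hm hsi
      have hlt : Φ.inv (π * Φ.reflPerm i) < k := hk ▸ Φ.inv_mul_refl_lt hπ hi
      have hπ' : π * Φ.reflPerm i ∈ Φ.WL := mul_mem hπ (Φ.reflPerm_mem_WL i)
      have h := hs i (n * s⁻¹) (fun h hh => ?_) (fun x hx => ?_) 1 (one_mem _)
      · rwa [mul_one, inv_mul_cancel_right] at h
      · refine ih _ hlt _ rfl hπ' (n * s⁻¹ * h) (mul_mem hn' (H_le_N hh)) ?_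
        have := Mono.mul Φ hm' ((Φ.mem_H_iff_mono_one (H_le_N hh)).mp hh)
        rwa [mul_one] at this
      · rw [Subgroup.mem_subgroupOf] at hx ⊢
        rw [Φ.posUnipotent_eq_US]
        refine Φ.map_US_le hm' (T := Φ.toTables.Pos) (fun r hr => ?_) _ hx
        rw [show r = Φ.p i from hr, Equiv.Perm.mul_apply, Φ.reflPerm_apply, Φ.refl_p, Φ.map_rev hπ,
          Φ.pos_rev_iff]
        exact hi
  obtain ⟨b, hb, n, hn, π, hπ, hm, u, hu, e⟩ := Φ.exists_normal_form g.2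
  obtain ⟨v, hv, h, hh, rfl⟩ := Φ.mem_B_iff.1 hb
  have huU := Φ.Uneg_le_U hu
  have hhn : Φ.Mono (h * n) π := by
    have := Mono.mul Φ ((Φ.mem_H_iff_mono_one (H_le_N hh)).mp hh) hm
    rwa [one_mul] at this
  have hg : g = ⟨v, Φ.B_le_group (U_le_B hv)⟩ *
      ⟨h * n, Φ.N_le_group (mul_mem (H_le_N hh) hn)⟩ * ⟨u, Φ.B_le_group (U_le_B huU)⟩ := by
    apply Subtype.ext
    rw [Subgroup.coe_mul, Subgroup.coe_mul, e]
    group
  rw [hg]
  exact hU _ hv _ huU _ (key _ π rfl hπ _ (mul_mem (H_le_N hh) hn) hhn)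

/-- The root data of a Chevalley group. -/
noncomputable def splitData : SplitData ↥(D.group F) p where
  U := (D.posUnipotent F).subgroupOf (D.group F)
  H := (D.diagonalSubgroup F).subgroupOf (D.group F)
  ι := Fin D.rank
  X i := (Φ.US F (· = Φ.p i)).subgroupOf (D.group F)
  n i := ⟨Φ.nw (Φ.p i) 1, Φ.nw_mem_group _ _⟩
  pU := by
    haveI : Fintype ↥(D.group F) := Fintype.ofFinite _
    exact Φ.isPGroup_U_sub p
  idxU := by
    classical
    haveI : Fintype ↥(D.group F) := Fintype.ofFinite _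
    have h := (Sylow.ofCard _ (Φ.card_U_sub (F := F) p)).not_dvd_index
    rwa [Sylow.coe_ofCard] at h
  X_le i x hx := by
    rw [Subgroup.mem_subgroupOf] at hx ⊢
    obtain ⟨t, e⟩ := Φ.exists_xg_of_mem hx
    rw [e]
    exact Φ.xg_mem_U (Φ.p_pos i) t
  HU h hh u hu := (Subgroup.mem_normalizer_iff.1 (Φ.H_le_normalizer_U (F := F) hh) _).1 hu
  HX i h hh x hx := Φ.conj_root_mem hh hx
  Hn i h hh :=
    (Subgroup.mem_normalizer_iff.1 (Φ.N_le_normalizer_H (Φ.nw_mem_N (F := F) (Φ.p i) 1)) _).1 hh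
  Hn' i h hh := by
    have := (Subgroup.mem_normalizer_iff.1 (Φ.N_le_normalizer_H
      (inv_mem (Φ.nw_mem_N (F := F) (Φ.p i) 1))) _).1 hh
    simp only [inv_inv] at this
    exact this
  sq i := by
    show Φ.nw (Φ.p i) (1 : Fˣ) * Φ.nw (Φ.p i) 1 ∈ D.diagonalSubgroup F
    rw [Φ.nw_one_sq, ← Φ.hw_p]
    exact Φ.hw_mem_H _ _
  split i u hu := by
    obtain ⟨v, hv, t, e⟩ := (Φ.mem_U_iff_out (i := i) (g := (u : GL D.Idx F))).mp hu
    refine ⟨⟨Φ.toAlg.xg (Φ.p i) t, Φ.toAlg.xg_mem_group _ _⟩, Φ.xg_mem_US (S := (· = Φ.p i)) rfl t, ?_⟩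
    rw [Subgroup.mem_subgroupOf]
    simp only [Subgroup.coe_mul, Subgroup.coe_inv, e]
    have hx : (Φ.toAlg.xg (Φ.p i) t)⁻¹ * (v * Φ.toAlg.xg (Φ.p i) t) ∈ Φ.US F (Φ.Out {i}) := by
      have := (Subgroup.mem_normalizer_iff.1 (inv_mem (Φ.xg_mem_normalizer_out (F := F) (J := {i})
        (Φ.sub_p.mpr (Set.mem_singleton i)) t)) v).1 hv
      simpa [mul_assoc] using this
    have := (Subgroup.mem_normalizer_iff.1 (inv_mem (Φ.nw_one_mem_normalizer_out (F := F) (J := {i})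
      (Set.mem_singleton i))) _).1 hx
    rw [inv_inv] at this
    rw [Φ.posUnipotent_eq_US]
    exact Φ.US_mono (fun r hr => Out.pos Φ hr) this
  induct C hH hU hs g := Φ.rigid_induct C hH hU hs g
  rankOne i x hx hx1 := by
    obtain ⟨t, e⟩ := Φ.exists_xg_of_mem (Subgroup.mem_subgroupOf.mp hx)
    have ht : (Φ.eta i (Φ.p i) : F) * t ≠ 0 := by
      refine mul_ne_zero ?_ fun h => hx1 (Subtype.ext ?_)
      · rcases Φ.eta_unit i (Φ.p i) with e' | e' <;> simp [e']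
      · rw [e, h, Φ.toAlg.xg_zero]; rfl
    set v : Fˣ := Units.mk0 _ ht with hv
    refine rankOne_of (fun h hh u hu => (Subgroup.mem_normalizer_iff.1 (Φ.H_le_normalizer_U (F := F) hh) _).1 hu)
      ?_ ⟨⟨Φ.toAlg.xg (Φ.p i) (v : F)⁻¹, Φ.toAlg.xg_mem_group _ _⟩, Φ.xg_mem_U (Φ.p_pos i) _,
        ⟨Φ.hw (Φ.p i) (-v⁻¹), Φ.N_le_group (H_le_N (Φ.hw_mem_H _ _))⟩, Φ.hw_mem_H _ _,
        ⟨Φ.toAlg.xg (Φ.p i) (v : F)⁻¹, Φ.toAlg.xg_mem_group _ _⟩, Φ.xg_mem_U (Φ.p_pos i) _, ?_⟩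
    · show Φ.nw (Φ.p i) (1 : Fˣ) * Φ.nw (Φ.p i) 1 ∈ D.diagonalSubgroup F
      rw [Φ.nw_one_sq, ← Φ.hw_p]
      exact Φ.hw_mem_H _ _
    · apply Subtype.ext
      show Φ.nw (Φ.p i) (1 : Fˣ) * (x : GL D.Idx F) * (Φ.nw (Φ.p i) 1)⁻¹ = _
      rw [e, Φ.nw_conj_xg, mul_inv_cancel_right, Φ.refl_p,
        show (Φ.eta i (Φ.p i) : F) * t = (v : F) from (Units.val_mk0 ht).symm, Φ.xg_rev_eq]
      rfl
  rad i := (Φ.US F (Φ.Out {j | j ≠ i})).subgroupOf (D.group F)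
  rad_le i x hx := by
    rw [Subgroup.mem_subgroupOf, Φ.posUnipotent_eq_US]
    exact Φ.US_mono (fun r hr => Out.pos Φ hr) hx
  rad_U i u hu := by
    rw [Subgroup.mem_normalizer_iff]
    exact fun x => Subgroup.mem_normalizer_iff.1 (Φ.U_le_normalizer_out (F := F) _ hu) _
  rad_H i h hh := by
    rw [Subgroup.mem_normalizer_iff]
    exact fun x => Subgroup.mem_normalizer_iff.1 (Φ.H_le_normalizer_US (F := F) _ hh) _
  rad_n i j hj := by
    rw [Subgroup.mem_normalizer_iff]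
    exact fun x => Subgroup.mem_normalizer_iff.1
      (Φ.nw_one_mem_normalizer_out (F := F) (J := {k | k ≠ i}) (i := j) hj) _

theorem splitData_X_ne (i : Fin D.rank) : (Φ.splitData (F := F) p).X i ≠ ⊥ := by
  rw [Subgroup.ne_bot_iff_exists_ne_one]
  refine ⟨⟨⟨Φ.toAlg.xg (Φ.p i) 1, Φ.toAlg.xg_mem_group _ _⟩, Φ.xg_mem_US (S := (· = Φ.p i)) rfl 1⟩, fun h => ?_⟩
  have := congrArg (fun y => ((y : ↥(D.group F)) : GL D.Idx F)) (congrArg Subtype.val h)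
  simp [Φ.toAlg.xg_eq_one_iff] at this

theorem splitData_rad_ne (i : Fin D.rank) : (Φ.splitData (F := F) p).rad i ≠ ⊥ := by
  rw [Subgroup.ne_bot_iff_exists_ne_one]
  refine ⟨⟨⟨Φ.toAlg.xg (Φ.p i) 1, Φ.toAlg.xg_mem_group _ _⟩,
    Φ.xg_mem_US (⟨i, fun h => h rfl, by simp [Φ.V_p]⟩ : Φ.Out {j | j ≠ i} (Φ.p i)) 1⟩, fun h => ?_⟩
  have := congrArg (fun y => ((y : ↥(D.group F)) : GL D.Idx F)) (congrArg Subtype.val h)
  simp [Φ.toAlg.xg_eq_one_iff] at this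

theorem neg_eq_conj (F : Type*) [Field F] [Finite F] [CharP F p]
    {n0 : ↥(D.group F)} (h0 : ∀ u, u ∈ D.posUnipotent F ↔
      (n0 : GL D.Idx F) * u * (n0 : GL D.Idx F)⁻¹ ∈ D.negUnipotent F) :
    (Φ.splitData (F := F) p).V n0 = (D.negUnipotent F).subgroupOf (D.group F) := by
  ext x
  rw [SplitData.V, mem_cj]
  show ((n0⁻¹ * x * n0 : ↥(D.group F)) : GL D.Idx F) ∈ D.posUnipotent F ↔ _
  rw [h0]
  simp [Subgroup.mem_subgroupOf, mul_assoc]

include Φ in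
/-- Rigidity of Chevalley groups. -/
theorem eq_one_of_fix [IsSimpleGroup ↥(D.group F)] (hr : 0 < D.rank) (α : MulAut ↥(D.group F))
    (hα : ¬ p ∣ orderOf α) (P : Sylow p ↥(D.group F)) (hfix : ∀ x ∈ (P : Subgroup ↥(D.group F)), α x = x) :
    α = 1 := by
  obtain ⟨hn0, π0, hπ0, hm0, hneg0, hiff⟩ := (Φ.exists_long_element F).choose_spec
  set m0 := (Φ.exists_long_element F).choose
  set n0 : ↥(D.group F) := ⟨m0, Φ.N_le_group hn0⟩ with hn0'
  have hV := Φ.neg_eq_conj p F (n0 := n0) hiff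
  haveI : Nonempty (Φ.splitData (F := F) p).ι := ⟨(⟨0, hr⟩ : Fin D.rank)⟩
  have hcj : ∀ h : ↥(D.group F), (h : GL D.Idx F) ∈ D.diagonalSubgroup F →
      cj h ((Φ.splitData (F := F) p).V n0) = (Φ.splitData (F := F) p).V n0 := by
    intro h hh
    ext x
    rw [hV, mem_cj, Subgroup.mem_subgroupOf, Subgroup.mem_subgroupOf, Φ.negUnipotent_eq_US]
    have := Subgroup.mem_normalizer_iff.1 (Φ.H_le_normalizer_US (F := F) (fun r => ¬ Φ.toTables.Pos r)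
      (inv_mem hh)) (x : GL D.Idx F)
    rw [inv_inv] at this
    exact this.symm
  refine (Φ.splitData (F := F) p).eq_one_of_fix (n0 := n0) (Φ.splitData_X_ne p) (fun (i : Fin D.rank) x hx => ?_)
    (fun h hh => hcj h hh) ?_ (fun g => ?_) α hα P hfix
  · rw [hV, Subgroup.mem_subgroupOf]
    obtain ⟨t, e⟩ := Φ.exists_xg_of_mem (Subgroup.mem_subgroupOf.mp hx)
    show (Φ.nw (Φ.p i) (1 : Fˣ))⁻¹ * (x : GL D.Idx F) * Φ.nw (Φ.p i) 1 ∈ D.negUnipotent F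
    rw [Φ.negUnipotent_eq_US, e]
    have hsi : Φ.Mono (Φ.nw (Φ.p i) (1 : Fˣ))⁻¹ (Φ.reflPerm i) := by
      have := Φ.mono_inv (Φ.nw_mem_N (Φ.p i) 1) (Φ.nw_one_mono (F := F) i)
      rwa [Φ.reflPerm_inv'] at this
    have := Φ.map_US_le hsi
      (T := fun r => ¬ Φ.toTables.Pos r) (fun r (hr : r = Φ.p i) => by
        rw [hr, Φ.reflPerm_apply, Φ.refl_p, Φ.pos_rev_iff, not_not]
        exact Φ.p_pos i) _ (Φ.xg_mem_US (S := (· = Φ.p i)) rfl t)
    rwa [inv_inv] at this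
  · rw [hV, eq_bot_iff]
    intro x hx
    rw [Subgroup.mem_inf] at hx
    have h : (x : GL D.Idx F) ∈ D.borelSubgroup F ⊓ D.negUnipotent F :=
      ⟨U_le_B (Subgroup.mem_subgroupOf.mp hx.1), Subgroup.mem_subgroupOf.mp hx.2⟩
    rw [Φ.B_inf_V, Subgroup.mem_bot] at h
    exact Subgroup.mem_bot.mpr (Subtype.ext h)
  · obtain ⟨b, hb, n, hn, π, hπ, hm, u, hu, e⟩ := Φ.exists_normal_form g.2
    have huU : u ∈ D.posUnipotent F := Φ.Uneg_le_U hu
    by_cases hlong : ∀ r, Φ.toTables.Pos r → ¬ Φ.toTables.Pos (π r)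
    · right
      obtain rfl : π = π0 := by
        refine inv_mul_eq_one.1 (Φ.eq_one_of_pos (mul_mem (inv_mem hπ) hπ0) fun r hr => ?_)
        rw [Equiv.Perm.mul_apply]
        by_contra hc
        have h1 := hlong _ ((Φ.pos_rev_iff _).2 hc)
        rw [Φ.map_rev hπ, show π (π⁻¹ (π0 r)) = π0 r from π.apply_symm_apply _, Φ.pos_rev_iff,
          not_not] at h1
        exact hneg0 r hr h1
      obtain ⟨u1, hu1, h, hh, rfl⟩ := Φ.mem_B_iff.1 hb
      have hh' : h * (n * m0⁻¹) ∈ D.diagonalSubgroup F := by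
        refine mul_mem hh ?_
        have := Φ.H_conj_mem hn0 (Φ.inv_mul_mem_H hn0 hn hm0 hm)
        rwa [show m0 * (m0⁻¹ * n) * m0⁻¹ = n * m0⁻¹ by group] at this
      refine ⟨⟨u1, Φ.B_le_group (U_le_B hu1)⟩, hu1, ⟨h * (n * m0⁻¹), Φ.N_le_group (H_le_N hh')⟩,
        hcj _ hh', ⟨u, Φ.B_le_group (U_le_B huU)⟩, huU, ?_⟩
      apply Subtype.ext
      show (g : GL D.Idx F) = u1 * (h * (n * m0⁻¹)) * m0 * u
      rw [e]; group
    · left
      push Not at hlong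
      obtain ⟨r, hr, hr'⟩ := hlong
      obtain ⟨c, hc⟩ := Mono.conj Φ hm r (1 : F)
      have hz := Φ.B_normalizes_U hb (Φ.xg_mem_U hr' c)
      refine ⟨⟨b * Φ.toAlg.xg (π r) c * b⁻¹, Φ.B_le_group (U_le_B hz)⟩, hz, ?_, ?_⟩
      · intro h1
        have h2 : b * Φ.toAlg.xg (π r) c * b⁻¹ = 1 := congrArg Subtype.val h1
        rw [conj_eq_one_iff, ← hc, conj_eq_one_iff, Φ.toAlg.xg_eq_one_iff] at h2
        exact one_ne_zero h2
      · show (g : GL D.Idx F)⁻¹ * (b * Φ.toAlg.xg (π r) c * b⁻¹) * (g : GL D.Idx F) ∈ D.posUnipotent F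
        rw [e, ← hc, show (b * n * u)⁻¹ * (b * (n * Φ.toAlg.xg r (1 : F) * n⁻¹) * b⁻¹) * (b * n * u) =
          u⁻¹ * Φ.toAlg.xg r (1 : F) * u by group]
        exact mul_mem (mul_mem (inv_mem huU) (Φ.xg_mem_U hr 1)) huU

include Φ in
/-- Overgroups of Sylow subgroups of Chevalley groups. -/
theorem eq_top_of_index [IsSimpleGroup ↥(D.group F)] (hr : 0 < D.rank) (M : Subgroup ↥(D.group F))
    (hM : Cfsg.pCore p ↥M = ⊥) (hidx : ¬ p ∣ M.index) : M = ⊤ := by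
  haveI : Nonempty (Φ.splitData (F := F) p).ι := ⟨(⟨0, hr⟩ : Fin D.rank)⟩
  exact (Φ.splitData (F := F) p).eq_top_of_index' (Φ.splitData_X_ne p) (Φ.splitData_rad_ne p) M hM hidx

end Chev

end CfsgLib.Chev
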