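import Cfsg.Agent.Lib.LieRigid.Criterion
import Cfsg.Agent.Lib.Basic

/-!
Transport of the two properties along isomorphisms.
-/

set_option autoImplicit false

namespace CfsgLib.LieRigid

/-- Automorphisms of order prime to `p` centralising a Sylow `p`-subgroup are trivial. -/
def Rigid (p : ℕ) (G : Type*) [Group G] : Prop :=
  ∀ α : MulAut G, ¬ p ∣ orderOf α → ∀ S : Sylow p G, (∀ x ∈ (S : Subgroup G), α x = x) → α = 1

/-- Only the whole group has index prime to `p` and trivial `p`-core. -/
def TopOnly (p : ℕ) (G : Type*) [Group G] : Prop :=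
  ∀ M : Subgroup G, Cfsg.pCore p ↥M = ⊥ → ¬ p ∣ M.index → M = ⊤

variable {p : ℕ} {G H : Type*} [Group G] [Group H]

theorem Rigid.of_equiv [Fact p.Prime] [Finite G] (h : Rigid p H) (e : G ≃* H) : Rigid p G := by
  intro α hα S hfix
  haveI : Finite H := Finite.of_equiv G e.toEquiv
  have hS : ¬ p ∣ ((S : Subgroup G).map e.toMonoidHom).index := by
    rw [Subgroup.index_map_of_bijective (f := e.toMonoidHom) e.bijective]
    exact S.not_dvd_index
  have h1 := h ((e.symm.trans α).trans e) ?_ ((S.isPGroup'.map e.toMonoidHom).toSylow hS) ?_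
  · refine MulEquiv.ext fun x => e.injective ?_
    have := congrArg (fun β : MulAut H => β (e x)) h1
    simpa using this
  · rwa [show (e.symm.trans α).trans e = MulAut.congr e α from rfl, MulEquiv.orderOf_eq]
  · rintro x ⟨y, hy, rfl⟩
    show e (α (e.symm (e y))) = e y
    rw [e.symm_apply_apply, hfix y hy]

theorem TopOnly.of_equiv [Finite G] (h : TopOnly p H) (e : G ≃* H) : TopOnly p G := by
  intro M hM hidx
  have h1 : M.map e.toMonoidHom = ⊤ := by
    refine h _ ?_ ?_
    · rw [← CfsgLib.pCore_map_equiv p (M.equivMapOfInjective e.toMonoidHom e.injective), hM,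
        Subgroup.map_bot]
    · rwa [Subgroup.index_map_of_bijective (f := e.toMonoidHom) e.bijective]
  rw [eq_top_iff]
  intro x _
  have h2 : e x ∈ M.map e.toMonoidHom := h1 ▸ Subgroup.mem_top _
  obtain ⟨y, hy, hxy⟩ := h2
  exact e.injective hxy ▸ hy

end CfsgLib.LieRigid
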