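import Cfsg.Agent.Lib.LieRigid.Chevalley
import Cfsg.Agent.Lib.Chev.Twist.BN

/-!
Root data of the twisted groups.
-/

set_option autoImplicit false
set_option linter.unusedSectionVars false
set_option linter.dupNamespace false

namespace CfsgLib.Chev

open Cfsg.Lie Matrix CfsgLib.LieRigid

variable {D : ChevalleyDatum}

namespace Chev

variable {Φ : Chev D}

namespace Tw

variable {S : Φ.Sym} {F : Type*} [Field F] {T : Tw S F} {G1 : Subgroup (GL D.Idx F)}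

theorem out_w_compl {a b : Fin S.m} (hab : b ≠ a) (r : Fin D.nroots) :
    Φ.Out {j | j ∉ S.J a} (S.w b r) ↔ Φ.Out {j | j ∉ S.J a} r := by
  suffices H : ∀ π ∈ Subgroup.closure (Φ.reflPerm '' S.J b), ∀ r,
      Φ.Out {j | j ∉ S.J a} (π r) ↔ Φ.Out {j | j ∉ S.J a} r from H _ (S.w_mem b) r
  intro π h
  induction h using Subgroup.closure_induction with
  | mem x hx =>
    obtain ⟨i, hi, rfl⟩ := hx
    intro s
    rw [Φ.reflPerm_apply]
    exact Φ.out_refl (J := {j | j ∉ S.J a}) (i := i) (fun hia => hab (S.disj b a i hi hia))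
  | one => intro s; rfl
  | mul x y _ _ hx hy => intro s; rw [Equiv.Perm.mul_apply, hx, hy]
  | inv x _ hx =>
    intro s
    have := hx (x⁻¹ s)
    rw [perm_apply_inv] at this
    exact this.symm

theorem pos_all_of_pos {π : Equiv.Perm (Fin D.nroots)} (hπ : π ∈ S.W1) {a : Fin S.m} {i : Fin D.rank}
    (hi : i ∈ S.J a) (h : Φ.toTables.Pos (π (Φ.p i))) {r : Fin D.nroots} (hr : S.PJ a r) :
    Φ.toTables.Pos (π r) :=
  Φ.pos_of_comb_supp (S.mem_W1.mp hπ).1 hr.1 fun k hk => by_contra fun hc =>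
    S.neg_all_of_neg hπ (by_contra fun e => hk (hr.2 k e) : k ∈ S.J a) hc (S.p_mem_PJ hi) h

theorem Gen.rigid_induct (h : T.Gen G1) (C : ↥G1 → Prop)
    (hH : ∀ x ∈ (D.diagonalSubgroup F).subgroupOf G1, C x)
    (hU : ∀ u ∈ (D.posUnipotent F).subgroupOf G1, ∀ u' ∈ (D.posUnipotent F).subgroupOf G1,
      ∀ g, C g → C (u * g * u'))
    (hs : ∀ (a : Fin S.m) (m : ↥G1), (∀ x ∈ (D.diagonalSubgroup F).subgroupOf G1, C (m * x)) →
      (∀ x ∈ (Φ.US F (S.PJ a)).subgroupOf G1, m * x * m⁻¹ ∈ (D.posUnipotent F).subgroupOf G1) →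
      ∀ x ∈ (D.diagonalSubgroup F).subgroupOf G1, C (m * x * h.sn a))
    (g : ↥G1) : C g := by
  have key : ∀ π ∈ S.W1, ∀ n : ↥G1, (n : GL D.Idx F) ∈ D.monomialSubgroup F →
      Φ.Mono (n : GL D.Idx F) π → C n := by
    intro π hπ
    refine S.W1_induction (Q := fun π => ∀ n : ↥G1, (n : GL D.Idx F) ∈ D.monomialSubgroup F →
      Φ.Mono (n : GL D.Idx F) π → C n) (fun n hn hm => hH n ((Φ.mem_H_iff_mono_one hn).mpr hm))
      (fun π hπ a hd ih n hn hm => ?_) hπ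
    have hsi : Φ.Mono (h.sn a : GL D.Idx F)⁻¹ (S.w a) := by
      have := mono_inv (h.sn_N a) (h.sn_mono a)
      rwa [S.w_inv] at this
    have hn' : ((n * (h.sn a)⁻¹ : ↥G1) : GL D.Idx F) ∈ D.monomialSubgroup F :=
      mul_mem hn (inv_mem (h.sn_N a))
    have hm' : Φ.Mono ((n * (h.sn a)⁻¹ : ↥G1) : GL D.Idx F) (π * S.w a) := Mono.mul Φ hm hsi
    have h1 := hs a (n * (h.sn a)⁻¹) (fun x hx => ?_) (fun x hx => ?_) 1 (one_mem _)
    · rwa [mul_one, inv_mul_cancel_right] at h1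
    · refine ih (n * (h.sn a)⁻¹ * x) (mul_mem hn' (H_le_N hx)) ?_
      have := Mono.mul Φ hm' ((Φ.mem_H_iff_mono_one (H_le_N hx)).mp hx)
      rwa [mul_one] at this
    · rw [Subgroup.mem_subgroupOf] at hx ⊢
      rw [Φ.posUnipotent_eq_US]
      refine Φ.map_US_le hm' (T := Φ.toTables.Pos) (fun r hr => ?_) _ hx
      have h2 := hd (S.w a r).rev ⟨(Φ.pos_rev_iff _).mpr (S.w_neg a r hr.1 hr.2),
        by rw [Φ.sub_rev, S.sub_w]; exact hr.2⟩
      have h3 := h2.2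
      rw [Φ.W_rev (S.mem_W1.mp hπ).1, Φ.pos_rev_iff, not_not] at h3
      exact h3
  obtain ⟨π, hπ, hb⟩ := h.bruhat (h.le_fix g.2)
  obtain ⟨n, hn1, hn2, hn3⟩ := h.exists_nW1 hπ
  obtain ⟨b, hb1, u, hu, e⟩ := hb n hn1 hn2 hn3
  obtain ⟨v, hv, x, hx, rfl⟩ := T.B_mem hb1.1 hb1.2
  have huU : u ∈ D.posUnipotent F := by
    rw [Φ.posUnipotent_eq_US]; exact Φ.US_mono (fun r hr => hr.1) hu.1
  have hxn : Φ.Mono (x * n) π := by
    have := Mono.mul Φ ((Φ.mem_H_iff_mono_one (H_le_N hx.1)).mp hx.1) hn3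
    rwa [one_mul] at this
  have hg : g = ⟨v, h.U_le hv⟩ * ⟨x * n, mul_mem (h.H_le hx) hn1⟩ * ⟨u, h.U_le ⟨huU, hu.2⟩⟩ := by
    apply Subtype.ext
    rw [Subgroup.coe_mul, Subgroup.coe_mul, e]
    group
  rw [hg]
  exact hU _ hv.1 _ huU _ (key π hπ _ (mul_mem (H_le_N hx.1) hn2) hxn)

variable [Finite F] (p : ℕ) [Fact p.Prime] [CharP F p]

theorem Gen.U_isPGroup (h : T.Gen G1) : IsPGroup p ↥((D.posUnipotent F).subgroupOf G1) := by
  classical
  obtain ⟨k, hk⟩ : ∃ k, Nat.card F = p ^ k := by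
    have : Fintype F := Fintype.ofFinite F
    obtain ⟨n, -, hn⟩ := FiniteField.card F p
    exact ⟨n, by rw [Nat.card_eq_fintype_card, hn]⟩
  have hU : IsPGroup p ↥(D.posUnipotent F) := by
    refine IsPGroup.of_card (n := k * (D.nroots / 2)) ?_
    rw [Φ.card_U, hk, ← pow_mul]
  exact hU.comap_of_injective G1.subtype Subtype.coe_injective

theorem Gen.U_index (h : T.Gen G1) (hne : ∀ a, ∃ x ∈ Φ.US F (S.PJ a) ⊓ T.fix, x ≠ 1) :
    ¬ p ∣ ((D.posUnipotent F).subgroupOf G1).index := by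
  classical
  intro hdvd
  haveI : Finite ↥G1 := Subgroup.instFiniteSubtypeMem _
  set U := (D.posUnipotent F).subgroupOf G1 with hU
  set N := Subgroup.normalizer (U : Set ↥G1)
  obtain ⟨k, hk⟩ := IsPGroup.iff_card.mp (h.U_isPGroup p)
  have hdvd' : p ∣ Nat.card (↥G1 ⧸ U) := hdvd
  have h1 : p ∣ Nat.card (↥N ⧸ U.subgroupOf N) := Sylow.prime_dvd_card_quotient_normalizer (hdvd := by
    rw [pow_succ, ← hk, ← Subgroup.card_mul_index U]
    exact mul_dvd_mul_left _ hdvd) hk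
  haveI : (U.subgroupOf N).Normal := Subgroup.normal_in_normalizer
  obtain ⟨z, hz⟩ := exists_prime_orderOf_dvd_card' p h1
  obtain ⟨z, rfl⟩ := QuotientGroup.mk'_surjective (U.subgroupOf N) z
  -- the normaliser is the Borel subgroup
  obtain ⟨π, hπ, hb⟩ := h.bruhat (h.le_fix z.1.2)
  obtain ⟨n, hn1, hn2, hn3⟩ := h.exists_nW1 hπ
  obtain ⟨b, hb1, u, hu, e⟩ := hb n hn1 hn2 hn3
  have huU : u ∈ D.posUnipotent F := by
    rw [Φ.posUnipotent_eq_US]; exact Φ.US_mono (fun r hr => hr.1) hu.1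
  obtain rfl : π = 1 := by
    by_contra hne1
    obtain ⟨a, ha⟩ := S.exists_descent hπ hne1
    obtain ⟨x, hx, hx1⟩ := hne a
    have hxU : x ∈ D.posUnipotent F := by
      rw [Φ.posUnipotent_eq_US]; exact Φ.US_mono (fun r hr => hr.1) hx.1
    have hyU : u⁻¹ * x * u ∈ D.posUnipotent F := mul_mem (mul_mem (inv_mem huU) hxU) huU
    have hyG : u⁻¹ * x * u ∈ G1 :=
      h.U_le ⟨hyU, Subgroup.mul_mem _ (Subgroup.mul_mem _ (Subgroup.inv_mem _ hu.2) hx.2) hu.2⟩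
    have h2 : b⁻¹ * ((z.1 : GL D.Idx F) * (u⁻¹ * x * u) * (z.1 : GL D.Idx F)⁻¹) * b ∈ D.posUnipotent F := by
      have h3 : (z.1 : GL D.Idx F) * (u⁻¹ * x * u) * (z.1 : GL D.Idx F)⁻¹ ∈ D.posUnipotent F :=
        (Subgroup.mem_normalizer_iff.1 z.2 ⟨_, hyG⟩).1 hyU
      have := Φ.B_normalizes_U (inv_mem hb1.1) h3
      rwa [inv_inv] at this
    rw [show b⁻¹ * ((z.1 : GL D.Idx F) * (u⁻¹ * x * u) * (z.1 : GL D.Idx F)⁻¹) * b = n * x * n⁻¹ by
      rw [e]; group] at h2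
    have h3 : n * x * n⁻¹ ∈ D.borelSubgroup F ⊓ D.negUnipotent F := by
      refine ⟨U_le_B h2, ?_⟩
      rw [Φ.negUnipotent_eq_US]
      exact Φ.map_US_le hn3 (T := fun r => ¬ Φ.toTables.Pos r) (fun r hr => (ha r hr).2) _ hx.1
    rw [Φ.B_inf_V, Subgroup.mem_bot, conj_eq_one_iff] at h3
    exact hx1 h3
  have hzB : (z.1 : GL D.Idx F) ∈ D.borelSubgroup F := by
    rw [e]
    exact mul_mem (mul_mem hb1.1 (Subgroup.mem_sup_right ((Φ.mem_H_iff_mono_one hn2).mpr hn3))) (U_le_B huU)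
  obtain ⟨v, hv, x, hx, ev⟩ := T.B_mem hzB (h.le_fix z.1.2)
  have hxN : (⟨x, h.H_le hx⟩ : ↥G1) ∈ N := by
    rw [Subgroup.mem_normalizer_iff]
    exact fun y => Subgroup.mem_normalizer_iff.1 (Φ.H_le_normalizer_U hx.1) _
  have hzx : QuotientGroup.mk' (U.subgroupOf N) z = QuotientGroup.mk' (U.subgroupOf N) ⟨_, hxN⟩ := by
    refine QuotientGroup.eq.mpr ?_
    show (z.1 : GL D.Idx F)⁻¹ * x ∈ D.posUnipotent F
    rw [ev, show (v * x)⁻¹ * x = x⁻¹ * v⁻¹ * x by group]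
    have := (Subgroup.mem_normalizer_iff.1 (Φ.H_le_normalizer_U (inv_mem hx.1)) v⁻¹).1 (inv_mem hv.1)
    rwa [inv_inv] at this
  haveI : Fintype F := Fintype.ofFinite F
  have hpow : x ^ (Fintype.card F - 1) = 1 := by
    obtain ⟨d, rfl⟩ := Φ.exists_torus_of_mem_H hx.1
    rw [← map_pow, show d ^ (Fintype.card F - 1) = 1 from funext fun j => by
      rw [Pi.pow_apply, Pi.one_apply]
      exact Units.ext (by simpa using FiniteField.pow_card_sub_one_eq_one (d j : F) (d j).ne_zero),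
      map_one]
  have h4 : orderOf (QuotientGroup.mk' (U.subgroupOf N) z) ∣ Fintype.card F - 1 := by
    rw [orderOf_dvd_iff_pow_eq_one, hzx, ← map_pow,
      show (⟨_, hxN⟩ : ↥N) ^ (Fintype.card F - 1) = 1 from Subtype.ext (Subtype.ext hpow), map_one]
  rw [hz] at h4
  obtain ⟨f, hp, hf⟩ := FiniteField.card F p
  have hpF : p ∣ Fintype.card F := hf ▸ dvd_pow_self p f.ne_zero
  have hF := Fintype.one_lt_card (α := F)
  have := Nat.dvd_sub hpF h4
  rw [show Fintype.card F - (Fintype.card F - 1) = 1 by omega] at this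
  exact hp.one_lt.ne' (Nat.dvd_one.mp this)

/-- The root data of a twisted group. -/
noncomputable def Gen.splitData (h : T.Gen G1) (hne : ∀ a, ∃ x ∈ Φ.US F (S.PJ a) ⊓ T.fix, x ≠ 1) :
    SplitData ↥G1 p where
  U := (D.posUnipotent F).subgroupOf G1
  H := (D.diagonalSubgroup F).subgroupOf G1
  ι := Fin S.m
  X a := (Φ.US F (S.PJ a)).subgroupOf G1
  n a := h.sn a
  pU := h.U_isPGroup p
  idxU := h.U_index p hne
  X_le a x hx := by
    rw [Subgroup.mem_subgroupOf] at hx ⊢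
    rw [Φ.posUnipotent_eq_US]
    exact Φ.US_mono (fun r hr => hr.1) hx
  HU x hx u hu := (Subgroup.mem_normalizer_iff.1 (Φ.H_le_normalizer_U (F := F) hx) _).1 hu
  HX a x hx y hy := (Subgroup.mem_normalizer_iff.1 (Φ.H_le_normalizer_US (F := F) _ hx) _).1 hy
  Hn a x hx := (Subgroup.mem_normalizer_iff.1 (Φ.N_le_normalizer_H (h.sn_N a)) _).1 hx
  Hn' a x hx := by
    have := (Subgroup.mem_normalizer_iff.1 (Φ.N_le_normalizer_H (inv_mem (h.sn_N a))) _).1 hx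
    rw [inv_inv] at this
    exact this
  sq a := h.sn_sq a
  split a u hu := by
    obtain ⟨y, hy, x, hx, e⟩ := h.split_U a (v := (u : GL D.Idx F)) ⟨hu, h.le_fix u.2⟩
    refine ⟨⟨x, h.root_le a hx⟩, hx.1, ?_⟩
    have hxK : x ∈ Subgroup.normalizer (Φ.US F (Φ.Out (S.J a)) : Set (GL D.Idx F)) := by
      have hle : Φ.US F (S.PJ a) ≤ Subgroup.normalizer (Φ.US F (Φ.Out (S.J a)) : Set (GL D.Idx F)) := by
        rw [US, Subgroup.closure_le]
        rintro _ ⟨r, t, hr, rfl⟩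
        exact Φ.xg_mem_normalizer_out hr.2 t
      exact hle hx.1
    show (h.sn a : GL D.Idx F)⁻¹ * (x⁻¹ * (u : GL D.Idx F)) * (h.sn a : GL D.Idx F) ∈ D.posUnipotent F
    have h1 : x⁻¹ * (u : GL D.Idx F) ∈ Φ.US F (Φ.Out (S.J a)) := by
      rw [e]
      have := (Subgroup.mem_normalizer_iff.1 (inv_mem hxK) y).1 hy.1
      simpa [mul_assoc] using this
    have hsi : Φ.Mono (h.sn a : GL D.Idx F)⁻¹ (S.w a) := by
      have := mono_inv (h.sn_N a) (h.sn_mono a)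
      rwa [S.w_inv] at this
    have h2 := Φ.map_US_le hsi (T := Φ.toTables.Pos)
      (fun r hr => Out.pos Φ ((S.out_w (S.w_mem a) r).mpr hr)) _ h1
    rw [inv_inv] at h2
    rwa [Φ.posUnipotent_eq_US]
  induct C hH hU hs g := h.rigid_induct C hH hU hs g
  rankOne a x hx hx1 := by
    obtain ⟨b, hb, u, hu, e⟩ := h.rank_one a (x := (x : GL D.Idx F)) ⟨hx, h.le_fix x.2⟩
      fun h1 => hx1 (Subtype.ext h1)
    obtain ⟨v, hv, y, hy, rfl⟩ := T.B_mem hb.1 hb.2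
    refine rankOne_of (fun y hy u hu => (Subgroup.mem_normalizer_iff.1 (Φ.H_le_normalizer_U (F := F) hy) _).1 hu)
      (h.sn_sq a) ⟨⟨v, h.U_le hv⟩, hv.1, ⟨y, h.H_le hy⟩, hy.1, ⟨u, h.root_le a hu⟩, ?_, Subtype.ext e⟩
    show u ∈ D.posUnipotent F
    rw [Φ.posUnipotent_eq_US]
    exact Φ.US_mono (fun r hr => hr.1) hu.1
  rad a := (Φ.US F (Φ.Out {j | j ∉ S.J a})).subgroupOf G1
  rad_le a x hx := by
    rw [Subgroup.mem_subgroupOf] at hx ⊢
    rw [Φ.posUnipotent_eq_US]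
    exact Φ.US_mono (fun r hr => Out.pos Φ hr) hx
  rad_U a u hu := by
    rw [Subgroup.mem_normalizer_iff]
    exact fun x => Subgroup.mem_normalizer_iff.1 (Φ.U_le_normalizer_out (F := F) _ hu) _
  rad_H a x hx := by
    rw [Subgroup.mem_normalizer_iff]
    exact fun y => Subgroup.mem_normalizer_iff.1 (Φ.H_le_normalizer_US (F := F) _ hx) _
  rad_n a b hb := by
    rw [Subgroup.mem_normalizer_iff]
    have hsi : Φ.Mono (h.sn b : GL D.Idx F)⁻¹ (S.w b) := by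
      have := mono_inv (h.sn_N b) (h.sn_mono b)
      rwa [S.w_inv] at this
    refine fun x => ⟨fun hx => ?_, fun hx => ?_⟩
    · exact Φ.map_US_le (h.sn_mono b) (T := Φ.Out {j | j ∉ S.J a})
        (fun r hr => (out_w_compl hb r).mpr hr) _ (Subgroup.mem_subgroupOf.mp hx)
    · have := Φ.map_US_le hsi (T := Φ.Out {j | j ∉ S.J a})
        (fun r hr => (out_w_compl hb r).mpr hr) _ (Subgroup.mem_subgroupOf.mp hx)
      rw [Subgroup.mem_subgroupOf]
      simpa [mul_assoc] using this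

theorem Gen.splitData_X_ne (h : T.Gen G1) (hne : ∀ a, ∃ x ∈ Φ.US F (S.PJ a) ⊓ T.fix, x ≠ 1) (a : Fin S.m) :
    (h.splitData p hne).X a ≠ ⊥ := by
  obtain ⟨x, hx, hx1⟩ := hne a
  rw [Subgroup.ne_bot_iff_exists_ne_one]
  exact ⟨⟨⟨x, h.root_le a hx⟩, hx.1⟩, fun e => hx1 (congrArg (fun y => ((y : ↥G1) : GL D.Idx F))
    (congrArg Subtype.val e))⟩

theorem Gen.splitData_rad_ne (h : T.Gen G1) (hne : ∀ a, ∃ x ∈ Φ.US F (S.PJ a) ⊓ T.fix, x ≠ 1) (a : Fin S.m) :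
    (h.splitData p hne).rad a ≠ ⊥ := by
  obtain ⟨x, hx, hx1⟩ := hne a
  rw [Subgroup.ne_bot_iff_exists_ne_one]
  refine ⟨⟨⟨x, h.root_le a hx⟩, Φ.US_mono (fun r hr => ?_) hx.1⟩, fun e => hx1
    (congrArg (fun y => ((y : ↥G1) : GL D.Idx F)) (congrArg Subtype.val e))⟩
  obtain ⟨j, hj⟩ := Φ.exists_V_ne_zero r
  refine ⟨j, fun hjn => hjn (by_contra fun hc => hj (hr.2 j hc)), ?_⟩
  exact lt_of_le_of_ne (Φ.V_nonneg r hr.1 j) (Ne.symm hj)

/-- Rigidity of twisted groups. -/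
theorem Gen.eq_one_of_fix [IsSimpleGroup ↥G1] (h : T.Gen G1)
    (hne : ∀ a, ∃ x ∈ Φ.US F (S.PJ a) ⊓ T.fix, x ≠ 1) (hm : 0 < S.m) (α : MulAut ↥G1)
    (hα : ¬ p ∣ orderOf α) (P : Sylow p ↥G1) (hfix : ∀ x ∈ (P : Subgroup ↥G1), α x = x) : α = 1 := by
  haveI : Finite ↥G1 := Subgroup.instFiniteSubtypeMem _
  haveI : Nonempty (h.splitData p hne).ι := ⟨(⟨0, hm⟩ : Fin S.m)⟩
  obtain ⟨π0, hπ0, hlong⟩ := S.exists_longest
  obtain ⟨m0, hm0, hm0N, hm0M⟩ := h.exists_nW1 hπ0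
  set n0 : ↥G1 := ⟨m0, hm0⟩
  have hW0 := (S.mem_W1.mp hπ0).1
  have hV : ∀ x : ↥G1, x ∈ (h.splitData p hne).V n0 ↔ (m0⁻¹ * (x : GL D.Idx F) * m0) ∈ D.posUnipotent F := by
    intro x; rw [SplitData.V, mem_cj]; rfl
  have hneg : ∀ r, ¬ Φ.toTables.Pos r → Φ.toTables.Pos (π0⁻¹ r) := by
    intro r hr
    by_contra hc
    have h2 := ((hlong (π0⁻¹ r).rev).mpr ((Φ.pos_rev_iff _).mpr hc)).2
    rw [Φ.W_rev hW0, Φ.pos_rev_iff, not_not, perm_apply_inv] at h2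
    exact hr h2
  have hcj : ∀ y : ↥G1, (y : GL D.Idx F) ∈ D.diagonalSubgroup F →
      cj y ((h.splitData p hne).V n0) = (h.splitData p hne).V n0 := by
    intro y hy
    ext x
    rw [mem_cj, hV, hV]
    have h1 : m0⁻¹ * (y : GL D.Idx F) * m0 ∈ D.diagonalSubgroup F := by
      have := (Subgroup.mem_normalizer_iff.1 (Φ.N_le_normalizer_H (inv_mem hm0N)) _).1 hy
      rwa [inv_inv] at this
    have := Subgroup.mem_normalizer_iff.1 (Φ.H_le_normalizer_U (inv_mem h1)) (m0⁻¹ * (x : GL D.Idx F) * m0)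
    rw [inv_inv] at this
    rw [this]
    simp only [Subgroup.coe_mul, InvMemClass.coe_inv]
    refine iff_of_eq (congrArg (· ∈ D.posUnipotent F) ?_)
    group
  refine (h.splitData p hne).eq_one_of_fix (n0 := n0) (h.splitData_X_ne p hne)
    (fun (a : Fin S.m) x hx => ?_) (fun y hy => hcj y hy) ?_ (fun g => ?_) α hα P hfix
  · rw [hV, Φ.posUnipotent_eq_US]
    have := Φ.map_US_le (Mono.mul Φ (mono_inv hm0N hm0M) (mono_inv (h.sn_N a) (h.sn_mono a)))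
      (T := Φ.toTables.Pos) (fun r hr => ?_) _ (Subgroup.mem_subgroupOf.mp hx)
    · show m0⁻¹ * ((h.sn a : GL D.Idx F)⁻¹ * (x : GL D.Idx F) * (h.sn a : GL D.Idx F)) * m0 ∈ _
      simpa [mul_assoc] using this
    · rw [Equiv.Perm.mul_apply, S.w_inv]
      exact hneg _ (S.w_neg a r hr.1 hr.2)
  · rw [eq_bot_iff]
    intro x hx
    rw [Subgroup.mem_inf, hV] at hx
    have h1 : (x : GL D.Idx F) ∈ D.borelSubgroup F ⊓ D.negUnipotent F := by
      refine ⟨U_le_B hx.1, ?_⟩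
      rw [Φ.negUnipotent_eq_US]
      have h2 := hx.2
      rw [Φ.posUnipotent_eq_US] at h2
      have := Φ.map_US_le hm0M (T := fun r => ¬ Φ.toTables.Pos r) (fun r hr => ((hlong r).mpr hr).2) _ h2
      simpa [mul_assoc] using this
    rw [Φ.B_inf_V, Subgroup.mem_bot] at h1
    exact Subgroup.mem_bot.mpr (Subtype.ext h1)
  · obtain ⟨π, hπ, hb⟩ := h.bruhat (h.le_fix g.2)
    by_cases hall : ∀ i, ¬ Φ.toTables.Pos (π (Φ.p i))
    · right
      obtain rfl : π = π0 := by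
        have hW := (S.mem_W1.mp hπ).1
        refine inv_mul_eq_one.1 (Φ.W_eq_one_of_pos (mul_mem (inv_mem hW) hW0) fun r hr => ?_)
        rw [Equiv.Perm.mul_apply]
        by_contra hc
        have h1 := Φ.not_pos_of_comb hW ((Φ.pos_rev_iff _).mpr hc) (fun k _ => hall k)
        rw [Φ.W_rev hW, perm_apply_inv, Φ.pos_rev_iff, not_not] at h1
        exact ((hlong r).mpr hr).2 h1
      obtain ⟨b, hb1, u, hu, e⟩ := hb m0 hm0 hm0N hm0M
      obtain ⟨v, hv, y, hy, rfl⟩ := T.B_mem hb1.1 hb1.2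
      have huU : u ∈ D.posUnipotent F := by
        rw [Φ.posUnipotent_eq_US]; exact Φ.US_mono (fun r hr => hr.1) hu.1
      exact ⟨⟨v, h.U_le hv⟩, hv.1, ⟨y, h.H_le hy⟩, hcj _ hy.1, ⟨u, h.U_le ⟨huU, hu.2⟩⟩, huU,
        Subtype.ext e⟩
    · left
      push Not at hall
      obtain ⟨i, hi⟩ := hall
      obtain ⟨a, ha⟩ := S.cover i
      obtain ⟨n, hn1, hn2, hn3⟩ := h.exists_nW1 hπ
      obtain ⟨b, hb1, u, hu, e⟩ := hb n hn1 hn2 hn3
      obtain ⟨x, hx, hx1⟩ := hne a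
      have huU : u ∈ D.posUnipotent F := by
        rw [Φ.posUnipotent_eq_US]; exact Φ.US_mono (fun r hr => hr.1) hu.1
      have hxU : x ∈ D.posUnipotent F := by
        rw [Φ.posUnipotent_eq_US]; exact Φ.US_mono (fun r hr => hr.1) hx.1
      have hz : b * (n * x * n⁻¹) * b⁻¹ ∈ D.posUnipotent F := by
        refine Φ.B_normalizes_U hb1.1 ?_
        rw [Φ.posUnipotent_eq_US]
        exact Φ.map_US_le hn3 (fun r hr => pos_all_of_pos hπ ha hi hr) _ hx.1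
      refine ⟨⟨_, h.U_le ⟨hz, Subgroup.mul_mem _ (Subgroup.mul_mem _ hb1.2 (Subgroup.mul_mem _
        (Subgroup.mul_mem _ (h.le_fix hn1) hx.2) (Subgroup.inv_mem _ (h.le_fix hn1))))
        (Subgroup.inv_mem _ hb1.2)⟩⟩, hz, fun h1 => hx1 ?_, ?_⟩
      · have h2 : b * (n * x * n⁻¹) * b⁻¹ = 1 := congrArg Subtype.val h1
        rwa [conj_eq_one_iff, conj_eq_one_iff] at h2
      · show (g : GL D.Idx F)⁻¹ * (b * (n * x * n⁻¹) * b⁻¹) * (g : GL D.Idx F) ∈ D.posUnipotent F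
        rw [e, show (b * n * u)⁻¹ * (b * (n * x * n⁻¹) * b⁻¹) * (b * n * u) = u⁻¹ * x * u by group]
        exact mul_mem (mul_mem (inv_mem huU) hxU) huU

/-- Overgroups of Sylow subgroups of twisted groups. -/
theorem Gen.eq_top_of_index [IsSimpleGroup ↥G1] (h : T.Gen G1)
    (hne : ∀ a, ∃ x ∈ Φ.US F (S.PJ a) ⊓ T.fix, x ≠ 1) (hm : 0 < S.m) (M : Subgroup ↥G1)
    (hM : Cfsg.pCore p ↥M = ⊥) (hidx : ¬ p ∣ M.index) : M = ⊤ := by
  haveI : Finite ↥G1 := Subgroup.instFiniteSubtypeMem _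
  haveI : Nonempty (h.splitData p hne).ι := ⟨(⟨0, hm⟩ : Fin S.m)⟩
  exact (h.splitData p hne).eq_top_of_index' (h.splitData_X_ne p hne) (h.splitData_rad_ne p hne) M hM hidx

end Tw

end Chev

end CfsgLib.Chev
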