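import Cfsg.Agent.Lib.LieRigid.Polar
import Cfsg.Agent.Lib.PolarAut.Symplectic
import Cfsg.Agent.Lib.PolarAut.Unitary
import Cfsg.Agent.Lib.OmegaSimple
import Cfsg.Agent.Lib.OmegaCenter
import Cfsg.Agent.Lib.StdQuadForms

/-!
The classical groups as groups of isometries with root elements.
-/

set_option autoImplicit false
set_option linter.unusedSectionVars false

namespace CfsgLib.LieRigid

open CfsgLib.PolarAut in
/-- Groups of isometries of trace-valued forms. -/
noncomputable def ofGeo {F V G W : Type*} [Field F] [Finite F] [AddCommGroup V] [Module F V] [Group G] [Group W]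
    (S : Geo F V G W) : SGeo F V G W where
  P :=
    { h := S.P.h
      τ := S.P.τ
      ε := S.P.ε
      add_left := S.P.add_left
      smul_left := S.P.smul_left
      swap := S.P.swap
      ττ := S.P.ττ
      εε := S.P.εε
      nondeg := S.P.nondeg
      Sing := fun x => S.P.h x x = 0
      Val := S.P.Valid
      sing_h := fun h => h
      sing_smul := fun c x hx => by simp [S.P.smul_left, S.P.smul_right, hx]
      sing_add := fun {x y} hx hy hxy => by
        simp [S.P.add_left, S.P.add_right, hx, hy, hxy, S.P.perp_comm hxy]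
      exists_val := S.P.exists_valid
      val_of_sing := fun {a} ha => by simp [Polar.Valid, ha]
      hyp := fun {e} he0 he => by
        obtain ⟨f, H⟩ := S.P.exists_hyp (e := e) ⟨he0, he⟩
        exact ⟨f, H.ff, H.ef⟩
      sing_iff := fun {e f a} s he hf hef h1 h2 => Polar.Hyp.valid_iso ⟨he, hf, hef⟩ ⟨h1, h2⟩ s
      q0 := fun {e f} _ _ _ => by
        obtain ⟨z, hz0, hz⟩ := S.P.skew
        exact ⟨0, z, S.P.zero_left e, S.P.zero_left f, by simpa [Polar.Valid] using hz, hz0⟩ }
  act := S.act
  act_inj := S.act_inj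
  isom := S.isom
  sing_act g x hx := (S.isom g x x).trans hx
  root {e f a s} H ha hv := by
    obtain ⟨g, hg, -⟩ := S.exists_u (e := e) (f := f) ⟨H.1, H.2.1, H.2.2⟩ ha hv
    exact ⟨g, hg⟩
  pr := S.pr
  surj := S.surj
  ker g h := (S.ker g).mp h

theorem both_psp {F : Type} [Field F] [Fintype F] (p : ℕ) [Fact p.Prime] [CharP F p] (m : ℕ) (hm : 1 ≤ m)
    [IsSimpleGroup (Cfsg.PSp m F)] : Rigid p (Cfsg.PSp m F) ∧ TopOnly p (Cfsg.PSp m F) := by
  haveI : Finite (Cfsg.PSp m F) := Finite.of_surjective _ (CfsgLib.PolarAut.spGeo F m).surj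
  obtain ⟨e, f, H⟩ := CfsgLib.PolarAut.sp_pair (F := F) hm
  have K : (ofGeo (CfsgLib.PolarAut.spGeo F m)).P.Hyp e f := ⟨H.ee, H.ff, H.ef⟩
  exact ⟨(ofGeo _).rigid p K, (ofGeo _).topOnly p K⟩

theorem both_psu {F : Type} [Field F] [Fintype F] (p : ℕ) [Fact p.Prime] [CharP F p] {n q : ℕ}
    (hF : Fintype.card F = q ^ 2) (hn : 3 ≤ n) [IsSimpleGroup (Cfsg.PSU n F q)] :
    Rigid p (Cfsg.PSU n F q) ∧ TopOnly p (Cfsg.PSU n F q) := by
  haveI : Finite (Cfsg.SU n F q) := Subtype.finite
  haveI : Finite (Cfsg.PSU n F q) := Quotient.finite _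
  obtain ⟨e, f, H⟩ := CfsgLib.PolarAut.exists_pair hF (n := n) (by omega)
  have K : (ofGeo (CfsgLib.PolarAut.suGeo hF hn)).P.Hyp e f := ⟨H.ee, H.ff, H.ef⟩
  exact ⟨(ofGeo _).rigid p K, (ofGeo _).topOnly p K⟩

section Orthogonal

open QuadraticMap CfsgLib.WittExtension CfsgLib.Eichler

variable {F V : Type*} [Field F] [AddCommGroup V] [Module F V] [FiniteDimensional F V]

/-- The form of a quadratic space. -/
def orthForm (Q : QuadraticForm F V) (hQ : (polarBilin Q).Nondegenerate) (hn : 5 ≤ Module.finrank F V) :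
    SForm F V where
  h x y := polar Q x y
  τ := RingHom.id F
  ε := 1
  add_left x y z := polar_add_left Q x y z
  smul_left c x z := by rw [polar_smul_left, smul_eq_mul]
  swap x y := by rw [one_mul, RingHom.id_apply, polar_comm]
  ττ _ := rfl
  εε := mul_one 1
  nondeg x hx := hQ.1 x hx
  Sing x := Q x = 0
  Val a s := Q a + s = 0
  sing_h {x} hx := by rw [CfsgLib.ReflectionGen.pol_self, hx, mul_zero]
  sing_smul c x hx := by rw [QuadraticMap.map_smul, hx, smul_zero]
  sing_add {x y} hx hy hxy := by rw [QuadraticMap.map_add Q, hx, hy, hxy]; simp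
  exists_val a := ⟨-Q a, by ring⟩
  val_of_sing {a} ha := by rw [ha, add_zero]
  hyp {e} he0 he := by
    obtain ⟨y, hy⟩ : ∃ y, polar Q e y ≠ 0 := by
      by_contra h
      push Not at h
      exact he0 (hQ.1 e h)
    obtain ⟨y', h1⟩ : ∃ y', polar Q e y' = 1 :=
      ⟨(polar Q e y)⁻¹ • y, by rw [polar_smul_right, smul_eq_mul, inv_mul_cancel₀ hy]⟩
    refine ⟨y' + (-Q y') • e, ?_, by
      rw [polar_add_right, polar_smul_right, CfsgLib.ReflectionGen.pol_self, he, h1]; simp⟩
    rw [QuadraticMap.map_add Q y', QuadraticMap.map_smul, he, polar_smul_right, polar_comm Q y' e, h1]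
    simp
  sing_iff {e f a} s he hf hef h1 h2 := by
    rw [QuadraticMap.map_add Q (f + a), QuadraticMap.map_add Q f, QuadraticMap.map_smul, he, hf,
      polar_add_left, polar_smul_right, polar_smul_right, polar_comm Q f e, hef, h1, polar_comm Q f a, h2]
    simp
  q0 {e f} he hf hef := by
    let L : V →ₗ[F] F × F := (polarBilin Q e).prod (polarBilin Q f)
    obtain ⟨w, hw, hw0⟩ : ∃ w ∈ LinearMap.ker L, w ≠ 0 :=
      Submodule.exists_mem_ne_zero_of_ne_bot (LinearMap.ker_ne_bot_of_finrank_lt (by
        rw [Module.finrank_prod, Module.finrank_self]; omega))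
    have hwe : polar Q w e = 0 := by
      rw [polar_comm]; exact congrArg Prod.fst (LinearMap.mem_ker.mp hw)
    have hwf : polar Q w f = 0 := by
      rw [polar_comm]; exact congrArg Prod.snd (LinearMap.mem_ker.mp hw)
    suffices h : ∃ a, polar Q a e = 0 ∧ polar Q a f = 0 ∧ Q a ≠ 0 by
      obtain ⟨a, h1, h2, h3⟩ := h
      exact ⟨a, -Q a, h1, h2, by ring, neg_ne_zero.mpr h3⟩
    by_cases hQw : Q w ≠ 0
    · exact ⟨w, hwe, hwf, hQw⟩
    rw [not_not] at hQw
    obtain ⟨y, hy⟩ : ∃ y, polar Q w y ≠ 0 := by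
      by_contra h
      push Not at h
      exact hw0 (hQ.1 w h)
    set b := y - polar Q y f • e - polar Q y e • f with hb
    have hfe : polar Q f e = 1 := by rw [polar_comm, hef]
    have hee : polar Q e e = 0 := by rw [CfsgLib.ReflectionGen.pol_self, he, mul_zero]
    have hff : polar Q f f = 0 := by rw [CfsgLib.ReflectionGen.pol_self, hf, mul_zero]
    have hbe : polar Q b e = 0 := by
      simp [hb, sub_eq_add_neg, polar_add_left, polar_neg_left, polar_smul_left, hee, hfe]
    have hbf : polar Q b f = 0 := by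
      simp [hb, sub_eq_add_neg, polar_add_left, polar_neg_left, polar_smul_left, hff, hef]
    have hwb : polar Q w b ≠ 0 := by
      simpa [hb, sub_eq_add_neg, polar_add_right, polar_neg_right, polar_smul_right, hwe, hwf] using hy
    by_cases hQb : Q b ≠ 0
    · exact ⟨b, hbe, hbf, hQb⟩
    rw [not_not] at hQb
    exact ⟨w + b, by rw [polar_add_left, hwe, hbe, add_zero], by rw [polar_add_left, hwf, hbf, add_zero],
      by rw [QuadraticMap.map_add Q, hQw, hQb, zero_add, zero_add]; exact hwb⟩

end Orthogonal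

open QuadraticMap CfsgLib.WittExtension CfsgLib.Eichler in
open scoped commutatorElement in
theorem both_pomega {F : Type} [Field F] [Fintype F] (p : ℕ) [Fact p.Prime] [CharP F p] {ι : Type}
    [Fintype ι] [DecidableEq ι] (f : (ι → F) → F)
    (Q : QuadraticForm F (ι → F)) (hf : ∀ v, f v = Q v) (hQ : (polarBilin Q).Nondegenerate)
    (hn : 5 ≤ Fintype.card ι) [IsSimpleGroup (Cfsg.POmega F f)] :
    Rigid p (Cfsg.POmega F f) ∧ TopOnly p (Cfsg.POmega F f) := by
  obtain rfl : f = ⇑Q := funext hf
  have hn' : 5 ≤ Module.finrank F (ι → F) := by rw [Module.finrank_fintype_fun_eq_card]; exact hn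
  let i := CfsgLib.SpinorMatrix.isoEquiv Q
  have hmap : (Cfsg.Omega F ⇑Q).map i.toMonoidHom = commutator (quadIso Q) := by
    rw [show Cfsg.Omega F ⇑Q = commutator _ from rfl, _root_.commutator_def,
      _root_.commutator_def, Subgroup.map_commutator, Subgroup.map_top_of_surjective _ i.surjective]
  let i' : ↥(Cfsg.Omega F ⇑Q) ≃* ↥(commutator (quadIso Q)) :=
    (i.subgroupMap _).trans (MulEquiv.subgroupCongr hmap)
  haveI : Finite ↥(commutator (quadIso Q)) :=
    Finite.of_injective (fun g => ((g.1.1 : (ι → F) ≃ₗ[F] (ι → F)) : (ι → F) → (ι → F)))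
      (fun g g' h => Subtype.ext (Subtype.ext (LinearEquiv.ext (congrFun h))))
  haveI : Finite ↥(Cfsg.Omega F ⇑Q) := Finite.of_equiv _ i'.symm.toEquiv
  haveI : Finite (Cfsg.POmega F ⇑Q) := Quotient.finite _
  let S : SGeo F (ι → F) ↥(commutator (quadIso Q)) (Cfsg.POmega F ⇑Q) :=
    { P := orthForm Q hQ hn'
      act := LinearEquiv.automorphismGroup.toLinearMapMonoidHom.comp
        ((quadIso Q).subtype.comp (commutator (quadIso Q)).subtype)
      act_inj := fun A A' h => Subtype.ext (Subtype.ext (LinearEquiv.toLinearMap_injective h))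
      isom := fun A x y => by
        show polar Q (A.1.1 x) (A.1.1 y) = polar Q x y
        simp only [polar, ← map_add, A.1.2 _]
      sing_act := fun A x hx => (A.1.2 x).trans hx
      root := fun {e f a s} H ha hv => by
        have hea : polar Q e a = 0 := by rw [polar_comm]; exact ha.1
        obtain ⟨g, hg⟩ := exists_eich Q H.1 hea
        have hmem : g ∈ commutator (quadIso Q) := by
          rw [OmegaSimple.commutator_eq Q hQ hn']
          exact OmegaSimple.eich_mem Q hQ hn' H.ne_left H.1 hea hg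
        refine ⟨⟨g, hmem⟩, LinearMap.ext fun x => ?_⟩
        show g.1 x = x + ((1 : F) * polar Q x e) • (a + s • e) - polar Q x a • e
        rw [hg x, show s = -Q a from eq_neg_of_add_eq_zero_right hv, polar_comm Q e x, polar_comm Q a x]
        module
      pr := (QuotientGroup.mk' _).comp i'.symm.toMonoidHom
      surj := (QuotientGroup.mk'_surjective _).comp i'.symm.surjective
      ker := fun g hg => by
        have hc : i'.symm g ∈ Subgroup.center ↥(Cfsg.Omega F ⇑Q) := (QuotientGroup.eq_one_iff _).mp hg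
        obtain ⟨c, -, hc'⟩ := CfsgLib.OmegaCenter.central_scalar Q hQ hn' g.1 fun a b => by
          have hab : ⁅a, b⁆ ∈ commutator (quadIso Q) :=
            Subgroup.commutator_mem_commutator (Subgroup.mem_top a) (Subgroup.mem_top b)
          have := congrArg i' (Subgroup.mem_center_iff.mp hc (i'.symm ⟨_, hab⟩))
          rw [map_mul, map_mul, i'.apply_symm_apply, i'.apply_symm_apply] at this
          exact (congrArg Subtype.val this).symm
        exact ⟨c, hc'⟩ }
  obtain ⟨e, he0, he⟩ := CfsgLib.FiniteForms.exists_singular Q (by omega)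
  obtain ⟨f, hf', hef⟩ := S.P.hyp he0 (he : S.P.Sing e)
  exact ⟨S.rigid p (e := e) (f := f) ⟨he, hf', hef⟩, S.topOnly p (e := e) (f := f) ⟨he, hf', hef⟩⟩

end CfsgLib.LieRigid
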