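import Mathlib
import Cfsg.Prelude.Def_Solvable

/-!
Rigidity criteria: automorphisms of order prime to `p` fixing a `p`-subgroup with an opposite one,
and overgroups of Sylow subgroups without normal `p`-subgroups.
-/

set_option autoImplicit false

namespace CfsgLib.LieRigid

open scoped Pointwise

variable {G : Type*} [Group G] {p : ℕ}

/-- Conjugation of subgroups. -/
def cj (g : G) (Q : Subgroup G) : Subgroup G := Q.map (MulAut.conj g).toMonoidHom

theorem mem_cj {g x : G} {Q : Subgroup G} : x ∈ cj g Q ↔ g⁻¹ * x * g ∈ Q := by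
  rw [cj, Subgroup.mem_map_equiv, MulAut.conj_symm_apply]

theorem cj_mul (g k : G) (Q : Subgroup G) : cj (g * k) Q = cj g (cj k Q) := by
  ext x
  rw [mem_cj, mem_cj, mem_cj, show (g * k)⁻¹ * x * (g * k) = k⁻¹ * (g⁻¹ * x * g) * k by group]

theorem cj_one (Q : Subgroup G) : cj 1 Q = Q := by
  ext x; simp [mem_cj]

theorem cj_inv_mul {g k : G} {Q R : Subgroup G} (h : cj g Q = cj k R) : cj (k⁻¹ * g) Q = R := by
  rw [cj_mul, h, ← cj_mul, inv_mul_cancel, cj_one]

theorem map_cj {H : Type*} [Group H] (f : G →* H) (g : G) (Q : Subgroup G) :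
    (cj g Q).map f = cj (f g) (Q.map f) := by
  rw [cj, cj, Subgroup.map_map, Subgroup.map_map]
  congr 1
  ext x
  simp

/-- A pair of opposite `p`-subgroups rigidifying coprime automorphisms. -/
theorem eq_one_of_fix_opposite [Finite G] [Fact p.Prime] (Q Q' : Subgroup G) (hQ : IsPGroup p Q)
    (gQ : G) (hQ' : cj gQ Q = Q')
    (hopp : ∀ g : G, (∀ z ∈ Q, cj z (cj g Q) = cj g Q → z = 1) → ∃ z ∈ Q, cj g Q = cj z Q')
    (hN : ∀ z ∈ Q, cj z Q' = Q' → z = 1) (hN' : ∀ z ∈ Q', cj z Q = Q → z = 1)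
    (q0 : G) (hq0 : q0 ∈ Q') (q1 : G) (hq1 : q1 ∈ Q) (hq01 : cj q0 Q = cj q1 Q')
    (hgen : Q ⊔ Q' = ⊤) (α : MulAut G) (hα : ¬ p ∣ orderOf α) (hfix : ∀ z ∈ Q, α z = z) : α = 1 := by
  have hQα : Q.map α.toMonoidHom = Q := by
    ext x
    constructor
    · rintro ⟨y, hy, rfl⟩
      show α y ∈ Q
      rwa [hfix y hy]
    · exact fun hx => ⟨x, hx, hfix x hx⟩
  have hmap : ∀ g, (cj g Q).map α.toMonoidHom = cj (α g) Q := fun g => by
    rw [map_cj, hQα]; rfl
  have himg : Q'.map α.toMonoidHom = cj (α gQ) Q := by rw [← hQ', hmap]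
  -- the image of the opposite group is a conjugate under `Q`
  obtain ⟨z, hz, hze⟩ := hopp (α gQ) fun w hw hwe => by
    refine hN w hw (Subgroup.map_injective (f := α.toMonoidHom) α.injective ?_)
    rw [map_cj, show α.toMonoidHom w = w from hfix w hw, himg, hwe]
  have hpow : ∀ k : ℕ, Q'.map ((α ^ k : MulAut G).toMonoidHom) = cj (z ^ k) Q' := by
    intro k
    induction k with
    | zero => rw [pow_zero, pow_zero, cj_one]; exact Subgroup.map_id _
    | succ k ih =>
      rw [show ((α ^ (k + 1) : MulAut G).toMonoidHom) = α.toMonoidHom.comp (α ^ k : MulAut G).toMonoidHom by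
        rw [pow_succ']; rfl, ← Subgroup.map_map, ih, map_cj, himg, hze, ← cj_mul,
        show α.toMonoidHom (z ^ k) = z ^ k from hfix _ (pow_mem hz k), ← pow_succ]
  have hz1 : z = 1 := by
    have h1 := hpow (orderOf α)
    rw [pow_orderOf_eq_one, show ((1 : MulAut G).toMonoidHom) = MonoidHom.id G from rfl,
      Subgroup.map_id] at h1
    have h2 := hN _ (pow_mem hz _) h1.symm
    obtain ⟨k, hk⟩ := hQ ⟨z, hz⟩
    have h3 : orderOf z ∣ Nat.gcd (orderOf α) (p ^ k) :=
      Nat.dvd_gcd (orderOf_dvd_of_pow_eq_one h2)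
        (orderOf_dvd_of_pow_eq_one (congrArg Subtype.val hk))
    rw [Nat.Coprime.pow_right k (((Nat.Prime.coprime_iff_not_dvd Fact.out).mpr hα).symm)] at h3
    exact orderOf_eq_one_iff.mp (Nat.dvd_one.mp h3)
  have hQ'α : Q'.map α.toMonoidHom = Q' := by rw [himg, hze, hz1, cj_one]
  -- the special element is fixed
  have hq0α : α q0 = q0 := by
    have hmem : q0⁻¹ * α q0 ∈ Q' := by
      refine mul_mem (inv_mem hq0) ?_
      rw [← hQ'α]
      exact Subgroup.mem_map_of_mem _ hq0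
    have h := hN' _ hmem (cj_inv_mul (by
      rw [← hmap, hq01, map_cj, hQ'α, show α.toMonoidHom q1 = q1 from hfix q1 hq1]))
    exact (inv_mul_eq_one.mp h).symm
  have hgfix : α (q1⁻¹ * q0) = q1⁻¹ * q0 := by rw [map_mul, map_inv, hfix q1 hq1, hq0α]
  have hfix' : ∀ x ∈ Q', α x = x := by
    intro x hx
    rw [← cj_inv_mul hq01, mem_cj] at hx
    have h := hfix _ hx
    rw [map_mul, map_mul, map_inv, hgfix] at h
    exact mul_left_cancel (mul_right_cancel h)
  refine MulEquiv.ext fun x => ?_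
  have hle : Q ⊔ Q' ≤ (α : G →* G).eqLocus (MonoidHom.id G) := sup_le hfix hfix'
  exact hle (hgen ▸ Subgroup.mem_top x)

/-- It suffices that some Sylow subgroup through a given `p`-group gives rigidity. -/
theorem eq_one_of_fix_sylow [Finite G] [Fact p.Prime] (Q : Subgroup G) (hQ : IsPGroup p Q)
    (key : ∀ β : MulAut G, ¬ p ∣ orderOf β → (∀ z ∈ Q, β z = z) → β = 1)
    (α : MulAut G) (hα : ¬ p ∣ orderOf α) (U : Sylow p G) (hfix : ∀ x ∈ (U : Subgroup G), α x = x) :
    α = 1 := by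
  obtain ⟨P, hP⟩ := hQ.exists_le_sylow
  obtain ⟨g, hg⟩ := MulAction.exists_smul_eq G U P
  set c := MulAut.conj g
  have h1 : c * α * c⁻¹ = 1 := key _
    (by rwa [show c * α * c⁻¹ = MulAut.conj c α from rfl, MulEquiv.orderOf_eq]) fun z hz => by
      have hzP := hP hz
      rw [← hg, Sylow.coe_subgroup_smul] at hzP
      obtain ⟨y, hy, rfl⟩ := hzP
      show c (α (c⁻¹ (c y))) = c y
      rw [MulAut.inv_apply_self, hfix y hy]
  rwa [conj_eq_one_iff] at h1

/-- A subgroup with trivial `p`-core contains no nontrivial normal `p`-subgroup. -/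
theorem eq_bot_of_normal [Finite G] [Fact p.Prime] {M R : Subgroup G} (hM : Cfsg.pCore p ↥M = ⊥)
    (hR : IsPGroup p R) (hRM : R ≤ M) (hn : M ≤ Subgroup.normalizer (R : Set G)) : R = ⊥ := by
  haveI : (R.subgroupOf M).Normal := Subgroup.normal_subgroupOf_iff_le_normalizer hRM |>.mpr hn
  have hle : R.subgroupOf M ≤ Cfsg.pCore p ↥M := by
    refine le_sSup ?_
    exact ⟨inferInstance, hR.of_equiv (Subgroup.subgroupOfEquivOfLe hRM).symm⟩
  rw [hM, le_bot_iff, Subgroup.subgroupOf_eq_bot, disjoint_iff, inf_eq_left.mpr hRM] at hle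
  exact hle

/-- Reduction to subgroups containing a given `p`-group. -/
theorem eq_top_of_index [Finite G] [Fact p.Prime] (Q : Subgroup G) (hQ : IsPGroup p Q)
    (key : ∀ M : Subgroup G, Q ≤ M → (∀ R : Subgroup G, IsPGroup p R → R ≤ M →
      M ≤ Subgroup.normalizer (R : Set G) → R = ⊥) → (∃ P : Sylow p G, Q ≤ P ∧ (P : Subgroup G) ≤ M) → M = ⊤)
    (M : Subgroup G) (hM : Cfsg.pCore p ↥M = ⊥) (hidx : ¬ p ∣ M.index) : M = ⊤ := by
  obtain ⟨S⟩ : Nonempty (Sylow p M) := inferInstance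
  obtain ⟨P, hP⟩ := hQ.exists_le_sylow
  -- a Sylow subgroup of `G` inside `M`
  have hS : IsPGroup p ((S : Subgroup M).map M.subtype) := S.isPGroup'.map _
  have hSidx : ¬ p ∣ ((S : Subgroup M).map M.subtype).index := by
    rw [Subgroup.index_map, Subgroup.ker_subtype, sup_bot_eq, Subgroup.range_subtype]
    exact (Nat.Prime.not_dvd_mul Fact.out S.not_dvd_index hidx)
  obtain ⟨g, hg⟩ := MulAction.exists_smul_eq G (hS.toSylow hSidx) P
  have hle : (P : Subgroup G) ≤ cj g M := by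
    intro x hx
    rw [← hg, Sylow.coe_subgroup_smul] at hx
    obtain ⟨y, hy, rfl⟩ := hx
    obtain ⟨y', -, rfl⟩ := hy
    exact Subgroup.mem_map_of_mem _ y'.2
  have h := key (cj g M) (hP.trans hle) ?_ ⟨P, hP, hle⟩
  · rw [eq_top_iff]
    intro x _
    have : g * x * g⁻¹ ∈ cj g M := h ▸ Subgroup.mem_top _
    rw [mem_cj] at this
    simpa [mul_assoc] using this
  · intro R hR hRM hn
    have h0 := eq_bot_of_normal (R := cj g⁻¹ R) hM (hR.map _) ?_ ?_
    · have e : R = cj g (cj g⁻¹ R) := by rw [← cj_mul, mul_inv_cancel, cj_one]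
      rw [e, h0, cj, Subgroup.map_bot]
    · intro x hx
      rw [mem_cj] at hx
      have := hRM hx
      rw [mem_cj] at this
      simpa [mul_assoc] using this
    · intro x hx
      have hx' : g * x * g⁻¹ ∈ cj g M := by rw [mem_cj]; simpa [mul_assoc] using hx
      have hN := Subgroup.mem_normalizer_iff.mp (hn hx')
      rw [Subgroup.mem_normalizer_iff]
      intro y
      simp only [mem_cj, inv_inv]
      rw [hN (g * y * g⁻¹)]
      simp [mul_assoc]

end CfsgLib.LieRigid
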