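import Cfsg.Agent.Lib.LieRigid.Criterion
import Cfsg.Agent.Lib.LieRigid.Transfer

/-!
Groups of isometries of a form with singular vectors and root elements: rigidity and overgroups.
-/

set_option autoImplicit false
set_option linter.unusedSectionVars false

namespace CfsgLib.LieRigid

/-- A reflexive form with singular vectors and admissible root parameters. -/
structure SForm (F V : Type*) [Field F] [AddCommGroup V] [Module F V] where
  h : V → V → F
  τ : F →+* F
  ε : F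
  add_left : ∀ x y z, h (x + y) z = h x z + h y z
  smul_left : ∀ (c : F) x z, h (c • x) z = c * h x z
  swap : ∀ x y, h y x = ε * τ (h x y)
  ττ : ∀ a, τ (τ a) = a
  εε : ε * ε = 1
  nondeg : ∀ x, (∀ y, h x y = 0) → x = 0
  Sing : V → Prop
  Val : V → F → Prop
  sing_h : ∀ {x}, Sing x → h x x = 0
  sing_smul : ∀ (c : F) {x}, Sing x → Sing (c • x)
  sing_add : ∀ {x y}, Sing x → Sing y → h x y = 0 → Sing (x + y)
  exists_val : ∀ a, ∃ s, Val a s
  val_of_sing : ∀ {a}, Sing a → Val a 0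
  hyp : ∀ {e}, e ≠ 0 → Sing e → ∃ f, Sing f ∧ h e f = 1
  sing_iff : ∀ {e f a} (s : F), Sing e → Sing f → h e f = 1 → h a e = 0 → h a f = 0 →
    (Sing (f + a + s • e) ↔ Val a s)
  q0 : ∀ {e f}, Sing e → Sing f → h e f = 1 → ∃ a s, h a e = 0 ∧ h a f = 0 ∧ Val a s ∧ s ≠ 0

namespace SForm

variable {F V : Type*} [Field F] [AddCommGroup V] [Module F V] (P : SForm F V)

theorem ε_ne : P.ε ≠ 0 := left_ne_zero_of_mul_eq_one P.εε

theorem τε : P.τ P.ε = P.ε := by
  have h : (P.ε - 1) * (P.ε + 1) = 0 := by linear_combination P.εε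
  rcases mul_eq_zero.mp h with h | h
  · rw [sub_eq_zero] at h; rw [h, map_one]
  · rw [eq_neg_of_add_eq_zero_left h, map_neg, map_one]

theorem add_right (x y z : V) : P.h x (y + z) = P.h x y + P.h x z := by
  rw [P.swap (y + z) x, P.add_left, map_add, mul_add, ← P.swap, ← P.swap]

theorem smul_right (c : F) (x z : V) : P.h x (c • z) = P.τ c * P.h x z := by
  rw [P.swap (c • z) x, P.smul_left, map_mul, mul_left_comm, ← P.swap]

theorem zero_left (z : V) : P.h 0 z = 0 := by simpa using P.smul_left 0 0 z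

theorem zero_right (z : V) : P.h z 0 = 0 := by rw [P.swap, P.zero_left, map_zero, mul_zero]

theorem neg_left (x z : V) : P.h (-x) z = -P.h x z := by
  rw [← neg_one_smul F x, P.smul_left, neg_one_mul]

theorem sub_left (x y z : V) : P.h (x - y) z = P.h x z - P.h y z := by
  rw [sub_eq_add_neg, P.add_left, P.neg_left, ← sub_eq_add_neg]

theorem sub_right (x y z : V) : P.h x (y - z) = P.h x y - P.h x z := by
  rw [sub_eq_add_neg, P.add_right, ← neg_one_smul F z, P.smul_right, map_neg, map_one, neg_one_mul,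
    ← sub_eq_add_neg]

theorem perp_comm {x y : V} (h : P.h x y = 0) : P.h y x = 0 := by rw [P.swap, h, map_zero, mul_zero]

/-- A singular hyperbolic pair. -/
def Hyp (e f : V) : Prop := P.Sing e ∧ P.Sing f ∧ P.h e f = 1

/-- Orthogonal to a pair. -/
def Perp (e f a : V) : Prop := P.h a e = 0 ∧ P.h a f = 0

/-- The root map. -/
def uMap (e a : V) (s : F) : V →ₗ[F] V where
  toFun x := x + (P.ε * P.h x e) • (a + s • e) - P.h x a • e
  map_add' x y := by simp only [P.add_left, mul_add, add_smul]; abel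
  map_smul' c x := by
    simp only [P.smul_left, RingHom.id_apply, smul_sub, smul_add, smul_smul]
    congr 3 <;> ring

theorem uMap_apply (e a : V) (s : F) (x : V) :
    P.uMap e a s x = x + (P.ε * P.h x e) • (a + s • e) - P.h x a • e := rfl

theorem uMap_zero (e x : V) : P.uMap e 0 0 x = x := by simp [uMap_apply, P.zero_right]

variable {P}

theorem Hyp.fe {e f : V} (H : P.Hyp e f) : P.h f e = P.ε := by rw [P.swap, H.2.2, map_one, mul_one]

theorem Hyp.ne_left {e f : V} (H : P.Hyp e f) : e ≠ 0 := fun h => by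
  have := H.2.2; rw [h, P.zero_left] at this; exact zero_ne_one this

theorem Hyp.ne_right {e f : V} (H : P.Hyp e f) : f ≠ 0 := fun h => by
  have := H.2.2; rw [h, P.zero_right] at this; exact zero_ne_one this

theorem Hyp.rev {e f : V} (H : P.Hyp e f) : P.Hyp f (P.ε • e) :=
  ⟨H.2.1, P.sing_smul _ H.1, by rw [P.smul_right, H.fe, P.τε, P.εε]⟩

theorem Hyp.of_ne {x y : V} (hx : P.Sing x) (hy : P.Sing y) (hxy : P.h x y ≠ 0) :
    P.Hyp x (P.τ ((P.h x y)⁻¹) • y) :=
  ⟨hx, P.sing_smul _ hy, by rw [P.smul_right, P.ττ, inv_mul_cancel₀ hxy]⟩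

theorem perp_zero (e f : V) : P.Perp e f 0 := ⟨P.zero_left e, P.zero_left f⟩

theorem Hyp.decomp {e f : V} (H : P.Hyp e f) (x : V) :
    P.Perp e f (x - P.h x f • e - (P.ε * P.h x e) • f) ∧
      x = P.h x f • e + (P.ε * P.h x e) • f + (x - P.h x f • e - (P.ε * P.h x e) • f) := by
  refine ⟨⟨?_, ?_⟩, by abel⟩
  · simp only [P.sub_left, P.smul_left, P.sing_h H.1, H.fe]
    linear_combination -(P.h x e) * P.εε
  · simp only [P.sub_left, P.smul_left, H.2.2, P.sing_h H.2.1]
    ring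

theorem Hyp.eq_zero {e f : V} (H : P.Hyp e f) {a : V} (ha : P.Perp e f a)
    (h : ∀ b, P.Perp e f b → P.h a b = 0) : a = 0 := P.nondeg a fun y => by
  rw [(H.decomp y).2, P.add_right, P.add_right, P.smul_right, P.smul_right, ha.1, ha.2,
    h _ (H.decomp y).1]
  simp

theorem Hyp.perp_ne {e f : V} (H : P.Hyp e f) {a : V} (ha : P.Perp e f a) (ha0 : a ≠ 0) :
    ∃ b, P.Perp e f b ∧ P.h a b = 1 := by
  obtain ⟨b, hb, hab⟩ : ∃ b, P.Perp e f b ∧ P.h a b ≠ 0 := by
    by_contra h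
    push Not at h
    exact ha0 (H.eq_zero ha h)
  refine ⟨P.τ ((P.h a b)⁻¹) • b, ⟨?_, ?_⟩, by rw [P.smul_right, P.ττ, inv_mul_cancel₀ hab]⟩ <;>
    simp [P.smul_left, hb.1, hb.2]

theorem Hyp.uMap_left {e f : V} (H : P.Hyp e f) {a : V} (ha : P.Perp e f a) (s : F) :
    P.uMap e a s e = e := by simp [uMap_apply, P.sing_h H.1, P.perp_comm ha.1]

theorem Hyp.uMap_right {e f : V} (H : P.Hyp e f) {a : V} (ha : P.Perp e f a) (s : F) :
    P.uMap e a s f = f + a + s • e := by simp [uMap_apply, H.fe, P.perp_comm ha.2, P.εε, add_assoc]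

theorem uMap_perp {e a x : V} (s : F) (hx : P.h x e = 0) :
    P.uMap e a s x = x - P.h x a • e := by simp [uMap_apply, hx]

theorem Hyp.uMap_mul {e f : V} (H : P.Hyp e f) {a b : V} (ha : P.Perp e f a) (hb : P.Perp e f b)
    (s r : F) (x : V) :
    P.uMap e a s (P.uMap e b r x) = P.uMap e (a + b) (s + r - P.h b a) x := by
  simp only [uMap_apply, P.add_left, P.sub_left, P.add_right, P.smul_left, P.sing_h H.1, hb.1,
    P.perp_comm ha.1]
  module

theorem Hyp.uMap_pow {e f : V} (H : P.Hyp e f) {a : V} (ha : P.Perp e f a) (s : F) (k : ℕ) :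
    ∃ r : F, (P.uMap e a s : Module.End F V) ^ k = P.uMap e ((k : F) • a) r ∧ (a = 0 → r = k * s) := by
  induction k with
  | zero => exact ⟨0, LinearMap.ext fun x => by simp [uMap_zero], fun _ => by simp⟩
  | succ k ih =>
    obtain ⟨r, hr, hr0⟩ := ih
    refine ⟨r + s - P.h a ((k : F) • a), LinearMap.ext fun x => ?_, fun h => ?_⟩
    · rw [pow_succ, Module.End.mul_apply, hr, H.uMap_mul ⟨by simp [P.smul_left, ha.1],
        by simp [P.smul_left, ha.2]⟩ ha]
      congr 2
      push_cast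
      rw [add_smul, one_smul]
    · subst h
      rw [hr0 rfl]
      simp [P.zero_left]
      ring

theorem Hyp.uMap_pow_char {e f : V} (H : P.Hyp e f) {a : V} (ha : P.Perp e f a) (s : F) (p : ℕ) [CharP F p] :
    (P.uMap e a s : Module.End F V) ^ (p ^ 2) = 1 := by
  obtain ⟨r, hr, -⟩ := H.uMap_pow ha s p
  have h0 : ((p : ℕ) : F) = 0 := CharP.cast_eq_zero F p
  rw [h0, zero_smul] at hr
  obtain ⟨r', hr', hr0⟩ := H.uMap_pow (perp_zero e f) r p
  rw [pow_two, pow_mul, hr, hr', hr0 rfl, h0]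
  exact LinearMap.ext fun x => by simp [uMap_zero]

end SForm

/-- A group of isometries containing the root elements, with its projective image. -/
structure SGeo (F V G W : Type*) [Field F] [AddCommGroup V] [Module F V] [Group G] [Group W] where
  P : SForm F V
  act : G →* Module.End F V
  act_inj : Function.Injective act
  isom : ∀ g x y, P.h (act g x) (act g y) = P.h x y
  sing_act : ∀ g {x}, P.Sing x → P.Sing (act g x)
  root : ∀ {e f a} {s : F}, P.Hyp e f → P.Perp e f a → P.Val a s → ∃ g, act g = P.uMap e a s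
  pr : G →* W
  surj : Function.Surjective pr
  ker : ∀ g, pr g = 1 → ∃ c : F, ∀ x, act g x = c • x

namespace SGeo

variable {F V G W : Type*} [Field F] [AddCommGroup V] [Module F V] [Group G] [Group W]
  (S : SGeo F V G W)

theorem act_mul (g k : G) (x : V) : S.act (g * k) x = S.act g (S.act k x) := by rw [map_mul]; rfl

theorem act_one (x : V) : S.act 1 x = x := by rw [map_one]; rfl

theorem act_inv_act (g : G) (x : V) : S.act g⁻¹ (S.act g x) = x := by
  rw [← act_mul, inv_mul_cancel, act_one]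

theorem act_act_inv (g : G) (x : V) : S.act g (S.act g⁻¹ x) = x := by
  rw [← act_mul, mul_inv_cancel, act_one]

theorem act_ne {g : G} {x : V} (hx : x ≠ 0) : S.act g x ≠ 0 := fun h => hx (by
  rw [← S.act_inv_act g x, h, map_zero])

theorem ext {g k : G} (h : ∀ x, S.act g x = S.act k x) : g = k := S.act_inj (LinearMap.ext h)

/-- The unipotent radical of the stabiliser of a vector. -/
def rad (e : V) : Subgroup G where
  carrier := {g | S.act g e = e ∧ ∀ x, S.P.h x e = 0 → S.act g x - x ∈ Submodule.span F ({e} : Set V)}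
  one_mem' := ⟨S.act_one e, fun x _ => by simp⟩
  mul_mem' := fun {a b} ha hb => ⟨by rw [S.act_mul, hb.1, ha.1], fun x hx => by
    have hbx : S.P.h (S.act b x) e = 0 := by rw [← hb.1, S.isom, hx]
    rw [S.act_mul, show S.act a (S.act b x) - x = (S.act a (S.act b x) - S.act b x) + (S.act b x - x) by
      abel]
    exact add_mem (ha.2 _ hbx) (hb.2 x hx)⟩
  inv_mem' := fun {a} ha => by
    have he : S.act a⁻¹ e = e := by conv_lhs => rw [← ha.1, S.act_inv_act]
    refine ⟨he, fun x hx => ?_⟩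
    have hx' : S.P.h (S.act a⁻¹ x) e = 0 := by rw [← he, S.isom, hx]
    have := ha.2 _ hx'
    rw [S.act_act_inv] at this
    rw [← neg_sub]
    exact neg_mem this

/-- Its image. -/
def R (e : V) : Subgroup W := (S.rad e).map S.pr

theorem rad_act_le (g : G) (e : V) {u : G} (hu : u ∈ S.rad e) : g * u * g⁻¹ ∈ S.rad (S.act g e) := by
  refine ⟨by rw [S.act_mul, S.act_mul, S.act_inv_act, hu.1], fun x hx => ?_⟩
  have hx' : S.P.h (S.act g⁻¹ x) e = 0 := by
    conv_lhs => rw [← S.act_inv_act g e, S.isom, hx]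
  obtain ⟨c, hc⟩ := Submodule.mem_span_singleton.mp (hu.2 _ hx')
  rw [S.act_mul, S.act_mul]
  nth_rw 2 [← S.act_act_inv g x]
  rw [← map_sub, ← hc, map_smul]
  exact Submodule.mem_span_singleton.mpr ⟨c, rfl⟩

theorem R_act (g : G) (e : V) : S.R (S.act g e) = cj (S.pr g) (S.R e) := by
  ext y
  rw [mem_cj]
  constructor
  · rintro ⟨u, hu, rfl⟩
    refine ⟨g⁻¹ * u * g, ?_, by simp⟩
    have := S.rad_act_le g⁻¹ _ hu
    rwa [S.act_inv_act, inv_inv] at this
  · rintro ⟨u, hu, e'⟩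
    refine ⟨g * u * g⁻¹, S.rad_act_le g e hu, ?_⟩
    rw [map_mul, map_mul, e', map_inv]
    group

theorem rad_smul {c : F} (hc : c ≠ 0) (e : V) : S.rad (c • e) = S.rad e := by
  ext g
  show (S.act g (c • e) = c • e ∧ _) ↔ (S.act g e = e ∧ _)
  rw [map_smul, Submodule.span_singleton_smul_eq hc.isUnit]
  refine and_congr ⟨fun h => smul_right_injective V hc h, fun h => by rw [h]⟩ (forall_congr' fun x => ?_)
  rw [S.P.smul_right, mul_eq_zero, or_iff_right ((map_ne_zero S.P.τ).mpr hc)]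

theorem R_smul {c : F} (hc : c ≠ 0) (e : V) : S.R (c • e) = S.R e := by rw [R, R, S.rad_smul hc]

theorem rad_eq {e f : V} (H : S.P.Hyp e f) {g : G} (hg : g ∈ S.rad e) :
    ∃ a s, S.P.Perp e f a ∧ S.P.Val a s ∧ S.act g = S.P.uMap e a s := by
  obtain ⟨hge, hmod⟩ := hg
  obtain ⟨hap, hd⟩ := H.decomp (S.act g f)
  have hβ : S.P.ε * S.P.h (S.act g f) e = 1 := by
    have := S.isom g f e
    rw [hge, H.fe] at this
    rw [this, S.P.εε]
  rw [hβ, one_smul] at hd hap
  set α := S.P.h (S.act g f) f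
  set a := S.act g f - α • e - f with ha
  have hgf : S.act g f = f + a + α • e := by rw [hd]; abel
  have hv : S.P.Val a α := (S.P.sing_iff α H.1 H.2.1 H.2.2 hap.1 hap.2).mp (hgf ▸ S.sing_act g H.2.1)
  refine ⟨a, α, hap, hv, LinearMap.ext fun x => ?_⟩
  obtain ⟨hy, hx⟩ := H.decomp x
  set y := x - S.P.h x f • e - (S.P.ε * S.P.h x e) • f
  obtain ⟨c, hc⟩ := Submodule.mem_span_singleton.mp (hmod y hy.1)
  have hky : S.act g y = y + c • e := by rw [hc]; abel
  have h1 := S.isom g y f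
  rw [hky, hgf, hy.2] at h1
  simp [S.P.add_left, S.P.add_right, S.P.smul_left, S.P.smul_right, S.P.sing_h H.1, H.2.2, hy.1, hy.2,
    S.P.perp_comm hap.1] at h1
  rw [hx, map_add, map_add, map_smul, map_smul, hge, hgf, hky, map_add, map_add, map_smul, map_smul,
    H.uMap_left hap, H.uMap_right hap, SForm.uMap_perp α hy.1,
    show c = -S.P.h y a from by linear_combination h1]
  module

theorem mem_rad {e f : V} (H : S.P.Hyp e f) {a : V} (ha : S.P.Perp e f a) {s : F} {g : G}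
    (hg : S.act g = S.P.uMap e a s) : g ∈ S.rad e := by
  refine ⟨by rw [hg, H.uMap_left ha], fun x hx => ?_⟩
  rw [hg, SForm.uMap_perp s hx]
  exact Submodule.mem_span_singleton.mpr ⟨-S.P.h x a, by rw [neg_smul]; abel⟩

theorem pr_eq_one {e : V} (he : e ≠ 0) {g : G} (hg : g ∈ S.rad e) (h : S.pr g = 1) : g = 1 := by
  obtain ⟨c, hc⟩ := S.ker g h
  have h1 : c = 1 := smul_left_injective F he (((hc e).symm.trans hg.1).trans (one_smul F e).symm)
  exact S.ext fun x => by rw [hc, h1, one_smul, S.act_one]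

/-- Freeness at the partner. -/
theorem eq_one_of_fix {e f : V} (H : S.P.Hyp e f) {g : G} (hg : g ∈ S.rad e) {c : F}
    (hc : S.act g f = c • f) : g = 1 := by
  obtain ⟨a, s, ha, -, hga⟩ := S.rad_eq H hg
  rw [hga, H.uMap_right ha] at hc
  have h1 := congrArg (fun t => S.P.h t e) hc
  simp [S.P.add_left, S.P.smul_left, ha.1, H.fe, S.P.sing_h H.1, S.P.ε_ne] at h1
  have h2 : a + s • e = 0 := by
    rw [h1, one_smul] at hc
    linear_combination (norm := module) hc
  have h3 := congrArg (fun t => S.P.h t f) h2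
  simp [S.P.add_left, S.P.smul_left, ha.2, H.2.2, S.P.zero_left] at h3
  rw [h3, zero_smul, add_zero] at h2
  refine S.ext fun x => ?_
  rw [hga, h2, h3, SForm.uMap_zero, S.act_one]

/-- Transitivity on opposite vectors. -/
theorem exists_rad_map {e f : V} (H : S.P.Hyp e f) {x : V} (hx : S.P.Sing x) (hxe : S.P.h x e ≠ 0) :
    ∃ g ∈ S.rad e, ∃ c : F, c ≠ 0 ∧ x = c • S.act g f := by
  set β := S.P.ε * S.P.h x e
  have hβ : β ≠ 0 := mul_ne_zero S.P.ε_ne hxe
  obtain ⟨hp, hd⟩ := H.decomp (β⁻¹ • x)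
  have h1 : S.P.ε * S.P.h (β⁻¹ • x) e = 1 := by
    rw [S.P.smul_left, mul_left_comm, inv_mul_cancel₀ hβ]
  rw [h1, one_smul] at hd hp
  set α := S.P.h (β⁻¹ • x) f
  set a := β⁻¹ • x - α • e - f
  have hd' : β⁻¹ • x = f + a + α • e := by rw [hd]; abel
  have hv : S.P.Val a α := (S.P.sing_iff α H.1 H.2.1 H.2.2 hp.1 hp.2).mp (hd' ▸ S.P.sing_smul _ hx)
  obtain ⟨g, hg⟩ := S.root H hp hv
  exact ⟨g, S.mem_rad H hp hg, β, hβ, by rw [hg, H.uMap_right hp, ← hd', smul_inv_smul₀ hβ]⟩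

theorem exists_ne_one {e f : V} (H : S.P.Hyp e f) : ∃ g ∈ S.rad e, g ≠ 1 := by
  obtain ⟨a, s, ha1, ha2, hv, hs⟩ := S.P.q0 H.1 H.2.1 H.2.2
  obtain ⟨g, hg⟩ := S.root H ⟨ha1, ha2⟩ hv
  refine ⟨g, S.mem_rad H ⟨ha1, ha2⟩ hg, fun h => hs ?_⟩
  have := LinearMap.congr_fun hg f
  rw [h, S.act_one, H.uMap_right ⟨ha1, ha2⟩] at this
  have h2 := congrArg (fun t => S.P.h t f) this
  simpa [S.P.add_left, S.P.smul_left, ha2, H.2.2] using h2.symm

/-- Vectors that are not opposite are fixed by some root element. -/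
theorem exists_fixing {e f : V} (H : S.P.Hyp e f) {x : V} (hx : S.P.Sing x) (hxe : S.P.h x e = 0) :
    ∃ g ∈ S.rad e, g ≠ 1 ∧ S.act g x = x := by
  obtain ⟨hp, hd⟩ := H.decomp x
  simp only [hxe, mul_zero, zero_smul, add_zero, sub_zero] at hd hp
  set a := x - S.P.h x f • e with ha
  by_cases ha0 : a = 0
  · obtain ⟨g, hg, hg1⟩ := S.exists_ne_one H
    refine ⟨g, hg, hg1, ?_⟩
    rw [hd, ha0, add_zero, map_smul, hg.1]
  have has : S.P.Sing a := by
    rw [ha, sub_eq_add_neg, ← neg_smul]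
    exact S.P.sing_add hx (S.P.sing_smul _ H.1) (by rw [S.P.smul_right, hxe, mul_zero])
  obtain ⟨g, hg⟩ := S.root H hp (S.P.val_of_sing has)
  refine ⟨g, S.mem_rad H hp hg, fun h => ha0 ?_, ?_⟩
  · have := LinearMap.congr_fun hg f
    rw [h, S.act_one, H.uMap_right hp, zero_smul, add_zero] at this
    simpa using this
  · rw [hd, map_add, map_smul, hg, H.uMap_left hp, SForm.uMap_perp 0 hp.1, S.P.sing_h has, zero_smul,
      sub_zero]

section Finite

variable [Finite F] (p : ℕ) [Fact p.Prime] [CharP F p]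

theorem rad_pow {e f : V} (H : S.P.Hyp e f) {g : G} (hg : g ∈ S.rad e) : g ^ (p ^ 2) = 1 := by
  obtain ⟨a, s, ha, -, hga⟩ := S.rad_eq H hg
  exact S.act_inj (by rw [map_pow, hga, H.uMap_pow_char ha s p, map_one])

theorem R_isPGroup {e f : V} (H : S.P.Hyp e f) : IsPGroup p (S.R e) := by
  rintro ⟨_, u, hu, rfl⟩
  exact ⟨2, Subtype.ext (show S.pr u ^ (p ^ 2) = 1 by rw [← map_pow, S.rad_pow p H hu, map_one])⟩

include p in
theorem eq_of_R_eq {e f : V} (H : S.P.Hyp e f) {x : V} (hx0 : x ≠ 0) (hx : S.P.Sing x)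
    (hR : S.R x = S.R e) : ∃ c : F, x = c • e := by
  obtain ⟨x', hx', hxx'⟩ := S.P.hyp hx0 hx
  have hfix : ∀ g ∈ S.rad e, S.act g x = x := by
    intro g hg
    obtain ⟨u, hu, e1⟩ := (hR ▸ Subgroup.mem_map_of_mem S.pr hg : S.pr g ∈ S.R x)
    obtain ⟨c, hc⟩ := S.ker (g * u⁻¹) (by rw [map_mul, map_inv, e1, mul_inv_cancel])
    have hgu : ∀ v, S.act g v = c • S.act u v := fun v => by
      rw [← hc, ← S.act_mul, inv_mul_cancel_right]
    have hpow : ∀ (i : ℕ) v, S.act (g ^ i) v = c ^ i • S.act (u ^ i) v := by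
      intro i
      induction i with
      | zero => simp
      | succ i ih =>
        intro v
        rw [pow_succ, pow_succ, pow_succ, S.act_mul, S.act_mul, ih, hgu v, map_smul, smul_smul]
    have h1 := hpow (p ^ 2) x
    rw [S.rad_pow p H hg, S.rad_pow p (⟨hx, hx', hxx'⟩ : S.P.Hyp x x') hu, S.act_one] at h1
    have h2 : c ^ p ^ 2 = 1 := smul_left_injective F hx0 (h1.symm.trans (one_smul F x).symm)
    have h3 : c = 1 := iterateFrobenius_inj F p 2 (by simp [iterateFrobenius_def, h2])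
    rw [hgu, h3, one_smul, hu.1]
  have hxe : S.P.h x e = 0 := by
    obtain ⟨a, s, ha1, ha2, hv, hs⟩ := S.P.q0 H.1 H.2.1 H.2.2
    obtain ⟨g, hg⟩ := S.root H ⟨ha1, ha2⟩ hv
    have h1 := hfix g (S.mem_rad H ⟨ha1, ha2⟩ hg)
    rw [hg, SForm.uMap_apply] at h1
    have h2 : (S.P.ε * S.P.h x e) • (a + s • e) - S.P.h x a • e = 0 := by
      linear_combination (norm := module) h1
    by_cases ha : a = 0
    · subst ha
      rw [zero_add, S.P.zero_right, zero_smul, sub_zero, smul_smul, smul_eq_zero,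
        or_iff_left H.ne_left] at h2
      simpa [S.P.ε_ne, hs] using h2
    · obtain ⟨b, hb, hab⟩ := H.perp_ne ⟨ha1, ha2⟩ ha
      have h3 := congrArg (fun t => S.P.h t b) h2
      simp [S.P.sub_left, S.P.add_left, S.P.smul_left, hab, S.P.perp_comm hb.1, S.P.ε_ne,
        S.P.zero_left] at h3
      exact h3
  obtain ⟨hp, hd⟩ := H.decomp x
  simp only [hxe, mul_zero, zero_smul, add_zero, sub_zero] at hd hp
  refine ⟨S.P.h x f, ?_⟩
  conv_lhs => rw [hd]
  rw [add_eq_left]
  refine H.eq_zero hp fun b hb => ?_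
  obtain ⟨s, hs⟩ := S.P.exists_val b
  obtain ⟨g, hg⟩ := S.root H hb hs
  have h1 := hfix g (S.mem_rad H hb hg)
  rw [hg, SForm.uMap_perp s hxe, sub_eq_self, smul_eq_zero, or_iff_left H.ne_left] at h1
  rw [S.P.sub_left, S.P.smul_left, h1, S.P.perp_comm hb.1]
  simp

include p in
theorem eq_one_of_normalizes {e f : V} (H : S.P.Hyp e f) {z : W} (hz : z ∈ S.R e)
    (h : cj z (S.R f) = S.R f) : z = 1 := by
  obtain ⟨g, hg, rfl⟩ := hz
  rw [← S.R_act] at h
  obtain ⟨c, hc⟩ := S.eq_of_R_eq p H.rev (S.act_ne H.ne_right) (S.sing_act g H.2.1) h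
  rw [S.eq_one_of_fix H hg hc, map_one]

theorem R_le_sup {e f : V} (H : S.P.Hyp e f) {x : V} (hx : S.P.Sing x) (hxe : S.P.h x e ≠ 0) :
    S.R x ≤ S.R e ⊔ S.R f := by
  obtain ⟨g, hg, c, hc, rfl⟩ := S.exists_rad_map H hx hxe
  rw [S.R_smul hc, S.R_act]
  rintro y hy
  rw [mem_cj] at hy
  have h1 : S.pr g ∈ S.R e ⊔ S.R f := Subgroup.mem_sup_left (Subgroup.mem_map_of_mem _ hg)
  have := mul_mem (mul_mem h1 (Subgroup.mem_sup_right hy : _ ∈ S.R e ⊔ S.R f)) (inv_mem h1)
  simpa [mul_assoc] using this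

/-- The two opposite radicals generate. -/
theorem sup_eq_top [IsSimpleGroup W] {e f : V} (H : S.P.Hyp e f) : S.R e ⊔ S.R f = ⊤ := by
  have hall : ∀ x, x ≠ 0 → S.P.Sing x → S.R x ≤ S.R e ⊔ S.R f := by
    intro x hx0 hx
    by_cases hxe : S.P.h x e ≠ 0
    · exact S.R_le_sup H hx hxe
    rw [not_not] at hxe
    obtain ⟨hp, hd⟩ := H.decomp x
    simp only [hxe, mul_zero, zero_smul, add_zero, sub_zero] at hd hp
    set a := x - S.P.h x f • e with ha
    obtain ⟨y, hy, hye, hxy⟩ : ∃ y, S.P.Sing y ∧ S.P.h y e ≠ 0 ∧ S.P.h x y ≠ 0 := by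
      by_cases hc : S.P.h x f = 0
      · have hxa : x = a := by rw [ha, hc, zero_smul, sub_zero]
        obtain ⟨b, hb, hab⟩ := H.perp_ne hp (hxa ▸ hx0)
        obtain ⟨s, hs⟩ := S.P.exists_val b
        refine ⟨f + b + s • e, (S.P.sing_iff s H.1 H.2.1 H.2.2 hb.1 hb.2).mpr hs, ?_, ?_⟩
        · simp [S.P.add_left, S.P.smul_left, H.fe, hb.1, S.P.sing_h H.1, S.P.ε_ne]
        · rw [← hxa] at hab
          simp [S.P.add_right, S.P.smul_right, hc, hxe, hab]
      · exact ⟨f, H.2.1, by rw [H.fe]; exact S.P.ε_ne, hc⟩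
    have K := SForm.Hyp.of_ne hy H.1 hye
    refine (S.R_le_sup K hx hxy).trans (sup_le (S.R_le_sup H hy hye) ?_)
    rw [S.R_smul ((map_ne_zero S.P.τ).mpr (inv_ne_zero hye))]
    exact le_sup_left
  haveI : (S.R e ⊔ S.R f).Normal := by
    refine ⟨fun y hy w => ?_⟩
    obtain ⟨g, rfl⟩ := S.surj w
    have hle : cj (S.pr g) (S.R e ⊔ S.R f) ≤ S.R e ⊔ S.R f := by
      rw [cj, Subgroup.map_sup]
      refine sup_le ?_ ?_
      · show cj (S.pr g) (S.R e) ≤ _
        rw [← S.R_act]; exact hall _ (S.act_ne H.ne_left) (S.sing_act g H.1)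
      · show cj (S.pr g) (S.R f) ≤ _
        rw [← S.R_act]; exact hall _ (S.act_ne H.ne_right) (S.sing_act g H.2.1)
    exact hle (mem_cj.mpr (by simpa [mul_assoc] using hy))
  refine (IsSimpleGroup.eq_bot_or_eq_top_of_normal _ inferInstance).resolve_left fun h => ?_
  obtain ⟨g, hg, hg1⟩ := S.exists_ne_one H
  refine hg1 (S.pr_eq_one H.ne_left hg ?_)
  have h1 : S.pr g ∈ S.R e ⊔ S.R f := Subgroup.mem_sup_left (Subgroup.mem_map_of_mem _ hg)
  rwa [h, Subgroup.mem_bot] at h1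

variable [IsSimpleGroup W] [Finite W]

/-- Rigidity. -/
theorem rigid {e f : V} (H : S.P.Hyp e f) : Rigid p W := by
  intro α hα T hfix
  refine eq_one_of_fix_sylow (S.R e) (S.R_isPGroup p H) (fun β hβ hfixQ => ?_) α hα T hfix
  -- an element of the second radical moving the first point to an opposite one
  obtain ⟨a, s, ha1, ha2, hv, hs⟩ := S.P.q0 H.rev.1 H.rev.2.1 H.rev.2.2
  obtain ⟨u, hu⟩ := S.root H.rev ⟨ha1, ha2⟩ hv
  set x := S.act u (S.P.ε • e) with hxdef
  have hxe : S.P.h x e ≠ 0 := by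
    have h0 : S.P.h a e = 0 := by
      rw [S.P.smul_right, mul_eq_zero, or_iff_right ((map_ne_zero S.P.τ).mpr S.P.ε_ne)] at ha2
      exact ha2
    rw [hxdef, hu, H.rev.uMap_right ⟨ha1, ha2⟩]
    simp [S.P.add_left, S.P.smul_left, S.P.sing_h H.1, h0, H.fe, hs, S.P.ε_ne]
  have hRx : S.R x = cj (S.pr u) (S.R e) := by rw [hxdef, S.R_act, S.R_smul S.P.ε_ne]
  obtain ⟨v, hv', c, hc, hxv⟩ := S.exists_rad_map H (S.sing_act u (S.P.sing_smul _ H.1)) hxe
  have h01 : cj (S.pr u) (S.R e) = cj (S.pr v) (S.R f) := by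
    rw [← hRx, show x = c • S.act v f from hxv, S.R_smul hc, S.R_act]
  refine eq_one_of_fix_opposite (p := p) (S.R e) (S.R f) (S.R_isPGroup p H) _ (cj_inv_mul h01)
    (fun g hg => ?_) (fun z hz h => S.eq_one_of_normalizes p H hz h) (fun z hz h => ?_)
    (S.pr u) (Subgroup.mem_map_of_mem _ (S.mem_rad H.rev ⟨ha1, ha2⟩ hu))
    (S.pr v) (Subgroup.mem_map_of_mem _ hv') h01 (S.sup_eq_top H) β hβ hfixQ
  · obtain ⟨g, rfl⟩ := S.surj g
    rw [← S.R_act] at hg ⊢
    by_cases hge : S.P.h (S.act g e) e = 0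
    · exfalso
      obtain ⟨z, hz, hz1, hzx⟩ := S.exists_fixing H (S.sing_act g H.1) hge
      refine hz1 (S.pr_eq_one H.ne_left hz (hg _ (Subgroup.mem_map_of_mem _ hz) ?_))
      rw [← S.R_act, hzx]
    · obtain ⟨z, hz, d, hd, hgz⟩ := S.exists_rad_map H (S.sing_act g H.1) hge
      exact ⟨S.pr z, Subgroup.mem_map_of_mem _ hz, by rw [hgz, S.R_smul hd, S.R_act]⟩
  · rw [← S.R_smul S.P.ε_ne e] at h
    exact S.eq_one_of_normalizes p H.rev hz h

/-- The elements moving everything into a totally singular subspace fixed by them. -/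
def blockGroup (O : Set V) : Subgroup G where
  carrier := {g | (∀ y ∈ O, S.act g y = y) ∧ ∀ v, S.act g v - v ∈ Submodule.span F O}
  one_mem' := ⟨fun y _ => S.act_one y, fun v => by simp⟩
  mul_mem' := fun {a b} ha hb => ⟨fun y hy => by rw [S.act_mul, hb.1 y hy, ha.1 y hy], fun v => by
    rw [S.act_mul, show S.act a (S.act b v) - v = (S.act a (S.act b v) - S.act b v) + (S.act b v - v) by
      abel]
    exact add_mem (ha.2 _) (hb.2 v)⟩
  inv_mem' := fun {a} ha => ⟨fun y hy => by conv_lhs => rw [← ha.1 y hy, S.act_inv_act], fun v => by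
    have := ha.2 (S.act a⁻¹ v)
    rw [S.act_act_inv] at this
    rw [← neg_sub]
    exact neg_mem this⟩

theorem block_pow {O : Set V} {g : G} (hg : g ∈ S.blockGroup O) : g ^ p = 1 := by
  have hspan : ∀ w ∈ Submodule.span F O, S.act g w = w := fun w hw =>
    (Submodule.span_le.mpr hg.1 : Submodule.span F O ≤ LinearMap.eqLocus (S.act g) LinearMap.id) hw
  have h : ∀ (i : ℕ) v, S.act (g ^ i) v = v + (i : F) • (S.act g v - v) := by
    intro i
    induction i with
    | zero => simp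
    | succ i ih =>
      intro v
      rw [pow_succ', S.act_mul, ih, map_add, map_smul, hspan _ (hg.2 v)]
      push_cast
      module
  refine S.ext fun v => ?_
  rw [h, CharP.cast_eq_zero, zero_smul, add_zero, S.act_one]

/-- Overgroups. -/
theorem topOnly {e f : V} (H : S.P.Hyp e f) : TopOnly p W := by
  refine fun M hM hidx => LieRigid.eq_top_of_index (S.R e) (S.R_isPGroup p H) (fun M hQ hcore _ => ?_) M hM hidx
  have hconj : ∀ g, S.pr g ∈ M → S.R (S.act g e) ≤ M := by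
    intro g hg y hy
    rw [S.R_act, mem_cj] at hy
    have := mul_mem (mul_mem hg (hQ hy)) (inv_mem hg)
    simpa [mul_assoc] using this
  by_cases hopp : ∃ g, S.pr g ∈ M ∧ S.P.h (S.act g e) e ≠ 0
  · obtain ⟨g, hg, hne⟩ := hopp
    have K := SForm.Hyp.of_ne (S.sing_act g H.1) H.1 hne
    rw [eq_top_iff, ← S.sup_eq_top K, S.R_smul ((map_ne_zero S.P.τ).mpr (inv_ne_zero hne))]
    exact sup_le (hconj g hg) hQ
  push Not at hopp
  exfalso
  set O : Set V := {y | ∃ g, S.pr g ∈ M ∧ y = S.act g e} with hO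
  have heO : e ∈ O := ⟨1, by simp, (S.act_one e).symm⟩
  have hperp : ∀ y ∈ O, ∀ z ∈ O, S.P.h y z = 0 := by
    rintro _ ⟨g, hg, rfl⟩ _ ⟨k, hk, rfl⟩
    have := hopp (k⁻¹ * g) (by rw [map_mul, map_inv]; exact mul_mem (inv_mem hk) hg)
    rw [S.act_mul] at this
    rw [show S.act g e = S.act k (S.act k⁻¹ (S.act g e)) from (S.act_act_inv _ _).symm, S.isom, this]
  by_cases hline : ∀ y ∈ O, y ∈ Submodule.span F ({e} : Set V)
  · -- the radical of the point is normal
    obtain ⟨g, hg, hg1⟩ := S.exists_ne_one H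
    refine hg1 (S.pr_eq_one H.ne_left hg ?_)
    have hn : M ≤ Subgroup.normalizer (S.R e : Set W) := by
      intro w hw
      obtain ⟨k, rfl⟩ := S.surj w
      obtain ⟨c, hc⟩ := Submodule.mem_span_singleton.mp (hline _ ⟨k, hw, rfl⟩)
      have hc0 : c ≠ 0 := fun h => S.act_ne H.ne_left (by rw [← hc, h, zero_smul])
      have hR : cj (S.pr k) (S.R e) = S.R e := by rw [← S.R_act, ← hc, S.R_smul hc0]
      rw [Subgroup.mem_normalizer_iff]
      intro y
      conv_rhs => rw [← hR, mem_cj]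
      simp [mul_assoc]
    have h1 := hcore _ (S.R_isPGroup p H) hQ hn
    have h2 := Subgroup.mem_map_of_mem S.pr hg
    rwa [show (S.rad e).map S.pr = ⊥ from h1, Subgroup.mem_bot] at h2
  push Not at hline
  obtain ⟨x, hxO, hx⟩ := hline
  set N := (S.blockGroup O).map S.pr ⊓ M with hN
  have hNp : IsPGroup p N := by
    rintro ⟨_, ⟨u, hu, rfl⟩, hM'⟩
    exact ⟨1, Subtype.ext (show S.pr u ^ (p ^ 1) = 1 by rw [pow_one, ← map_pow, S.block_pow p hu, map_one])⟩
  have hn : M ≤ Subgroup.normalizer (N : Set W) := by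
    intro w hw
    obtain ⟨k, rfl⟩ := S.surj w
    have key : ∀ k, S.pr k ∈ M → ∀ y ∈ N, S.pr k * y * (S.pr k)⁻¹ ∈ N := by
      rintro k hk _ ⟨⟨u, hu, rfl⟩, huM⟩
      refine ⟨⟨k * u * k⁻¹, ⟨fun y hy => ?_, fun v => ?_⟩, by simp⟩,
        Subgroup.mul_mem _ (Subgroup.mul_mem _ hk huM) (Subgroup.inv_mem _ hk)⟩
      · obtain ⟨g, hg, rfl⟩ := hy
        rw [S.act_mul, S.act_mul, hu.1 (S.act k⁻¹ (S.act g e))
          ⟨k⁻¹ * g, by rw [map_mul, map_inv]; exact mul_mem (inv_mem hk) hg, (S.act_mul _ _ _).symm⟩,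
          S.act_act_inv]
      · rw [S.act_mul, S.act_mul]
        nth_rw 2 [← S.act_act_inv k v]
        rw [← map_sub]
        have hle : (Submodule.span F O).map (S.act k) ≤ Submodule.span F O := by
          rw [Submodule.map_span, Submodule.span_le]
          rintro _ ⟨_, ⟨g, hg, rfl⟩, rfl⟩
          exact Submodule.subset_span ⟨k * g, by rw [map_mul]; exact mul_mem hk hg, (S.act_mul _ _ _).symm⟩
        exact hle ⟨_, hu.2 _, rfl⟩
    rw [Subgroup.mem_normalizer_iff]
    refine fun y => ⟨key k hw y, fun h => ?_⟩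
    have := key k⁻¹ (by rw [map_inv]; exact inv_mem hw) _ h
    rw [map_inv, inv_inv] at this
    simpa [mul_assoc] using this
  have hbot := hcore N hNp inf_le_right hn
  obtain ⟨k, hkM, hxk⟩ := hxO
  have hxe : S.P.h x e = 0 := hperp x ⟨k, hkM, hxk⟩ e heO
  obtain ⟨hp, hd⟩ := H.decomp x
  simp only [hxe, mul_zero, zero_smul, add_zero, sub_zero] at hd hp
  set a := x - S.P.h x f • e with ha
  have ha0 : a ≠ 0 := fun h => hx (Submodule.mem_span_singleton.mpr ⟨S.P.h x f, (sub_eq_zero.mp h).symm⟩)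
  have hxs : S.P.Sing x := hxk ▸ S.sing_act k H.1
  have has : S.P.Sing a := by
    rw [ha, sub_eq_add_neg, ← neg_smul]
    exact S.P.sing_add hxs (S.P.sing_smul _ H.1) (by rw [S.P.smul_right, hxe, mul_zero])
  have haO : a ∈ Submodule.span F O :=
    sub_mem (Submodule.subset_span ⟨k, hkM, hxk⟩) (Submodule.smul_mem _ _ (Submodule.subset_span heO))
  obtain ⟨z, hz⟩ := S.root H hp (S.P.val_of_sing has)
  have hzN : S.pr z ∈ N := by
    refine ⟨Subgroup.mem_map_of_mem _ ⟨fun y hy => ?_, fun v => ?_⟩,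
      hQ (Subgroup.mem_map_of_mem _ (S.mem_rad H hp hz))⟩
    · rw [hz, SForm.uMap_perp 0 (hperp y hy e heO), ha, S.P.sub_right, S.P.smul_right,
        hperp y hy e heO, hperp y hy x ⟨k, hkM, hxk⟩]
      simp
    · rw [hz, SForm.uMap_apply]
      have he : e ∈ Submodule.span F O := Submodule.subset_span heO
      rw [add_sub_assoc, add_sub_cancel_left]
      exact sub_mem (Submodule.smul_mem _ _ (add_mem haO (Submodule.smul_mem _ _ he)))
        (Submodule.smul_mem _ _ he)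
  rw [hbot, Subgroup.mem_bot] at hzN
  have hz1 := S.pr_eq_one H.ne_left (S.mem_rad H hp hz) hzN
  have := LinearMap.congr_fun hz f
  rw [hz1, S.act_one, H.uMap_right hp, zero_smul, add_zero] at this
  exact ha0 (by simpa using this)

end Finite

end SGeo

end CfsgLib.LieRigid
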