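import Cfsg.Agent.Lib.LieRigid.Criterion

/-!
Rigidity in groups with root data of a split BN-pair.
-/

set_option autoImplicit false

namespace CfsgLib.LieRigid

variable {G : Type*} [Group G] {p : ℕ}

/-- Root data of a split BN-pair, as far as needed for rigidity. -/
structure SplitData (G : Type*) [Group G] (p : ℕ) where
  U : Subgroup G
  H : Subgroup G
  ι : Type
  X : ι → Subgroup G
  n : ι → G
  pU : IsPGroup p U
  idxU : ¬ p ∣ U.index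
  X_le : ∀ a, X a ≤ U
  HU : ∀ h ∈ H, ∀ u ∈ U, h * u * h⁻¹ ∈ U
  HX : ∀ a, ∀ h ∈ H, ∀ x ∈ X a, h * x * h⁻¹ ∈ X a
  Hn : ∀ a, ∀ h ∈ H, n a * h * (n a)⁻¹ ∈ H
  Hn' : ∀ a, ∀ h ∈ H, (n a)⁻¹ * h * n a ∈ H
  sq : ∀ a, n a * n a ∈ H
  split : ∀ a, ∀ u ∈ U, ∃ x ∈ X a, (n a)⁻¹ * (x⁻¹ * u) * n a ∈ U
  induct : ∀ C : G → Prop, (∀ h ∈ H, C h) →
    (∀ u ∈ U, ∀ u' ∈ U, ∀ g, C g → C (u * g * u')) →
    (∀ a m, (∀ h ∈ H, C (m * h)) → (∀ x ∈ X a, m * x * m⁻¹ ∈ U) → ∀ h ∈ H, C (m * h * n a)) →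
    ∀ g, C g
  rankOne : ∀ a, ∀ x ∈ X a, x ≠ 1 →
    ∃ u ∈ U, ∃ h ∈ H, ∃ u' ∈ U, (n a)⁻¹ * x * n a = u * h * n a * u'
  rad : ι → Subgroup G
  rad_le : ∀ a, rad a ≤ U
  rad_U : ∀ a, U ≤ Subgroup.normalizer (rad a : Set G)
  rad_H : ∀ a, H ≤ Subgroup.normalizer (rad a : Set G)
  rad_n : ∀ a b, b ≠ a → n b ∈ Subgroup.normalizer (rad a : Set G)

namespace SplitData

variable (D : SplitData G p)

/-- The double cosets of the maximal unipotent group met by `M`. -/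
def Meets (M : Subgroup G) (g : G) : Prop := ∃ u ∈ D.U, ∃ u' ∈ D.U, u * g * u' ∈ M

/-- The group generated by `U` and the opposite rank one root groups. -/
def opGen : Subgroup G :=
  Subgroup.closure ((D.U : Set G) ∪ {y | ∃ a, ∃ x ∈ D.X a, y = (D.n a)⁻¹ * x * D.n a})

/-- In a simple group they generate. -/
theorem gen [IsSimpleGroup G] [Nonempty D.ι] (hX : ∀ a, D.X a ≠ ⊥) : D.opGen = ⊤ := by
  classical
  set L := D.opGen
  set N := Subgroup.normalizer (L : Set G)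
  have hUL : ∀ u ∈ D.U, u ∈ L := fun u hu => Subgroup.subset_closure (Or.inl hu)
  have hH : ∀ h ∈ D.H, h ∈ N := by
    have key : ∀ h ∈ D.H, ∀ y ∈ L, h * y * h⁻¹ ∈ L := by
      intro h hh y hy
      induction hy using Subgroup.closure_induction with
      | mem z hz =>
        rcases hz with hz | ⟨a, x, hx, rfl⟩
        · exact hUL _ (D.HU h hh z hz)
        · refine Subgroup.subset_closure (Or.inr ⟨a, _, D.HX a _ (D.Hn a h hh) x hx, ?_⟩)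
          group
      | one => simp
      | mul y z _ _ h1 h2 => simpa [mul_assoc] using mul_mem h1 h2
      | inv y _ h1 => simpa [mul_assoc] using inv_mem h1
    intro h hh
    rw [Subgroup.mem_normalizer_iff]
    refine fun y => ⟨key h hh y, fun hy => ?_⟩
    simpa [mul_assoc] using key _ (inv_mem hh) _ hy
  have hn : ∀ a, D.n a ∈ N := by
    intro a
    obtain ⟨⟨x, hx⟩, hx1⟩ := Subgroup.ne_bot_iff_exists_ne_one.mp (hX a)
    obtain ⟨u, hu, h, hh, u', hu', e⟩ := D.rankOne a x hx fun e => hx1 (Subtype.ext e)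
    have h1 : h * D.n a ∈ L := by
      have h2 : (D.n a)⁻¹ * x * D.n a ∈ L := Subgroup.subset_closure (Or.inr ⟨a, x, hx, rfl⟩)
      rw [e] at h2
      simpa [mul_assoc] using mul_mem (mul_mem (inv_mem (hUL u hu)) h2) (inv_mem (hUL u' hu'))
    simpa using mul_mem (inv_mem (hH h hh)) (Subgroup.le_normalizer h1)
  have hN : ∀ g, g ∈ N := by
    refine D.induct _ hH (fun u hu u' hu' g hg => ?_) fun a m ih _ h hh => ?_
    · exact mul_mem (mul_mem (Subgroup.le_normalizer (hUL u hu)) hg) (Subgroup.le_normalizer (hUL u' hu'))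
    · exact mul_mem (ih h hh) (hn a)
  haveI : L.Normal := Subgroup.normalizer_eq_top_iff.mp (eq_top_iff.mpr fun g _ => hN g)
  refine (IsSimpleGroup.eq_bot_or_eq_top_of_normal L inferInstance).resolve_left fun e => ?_
  obtain ⟨a⟩ := (inferInstance : Nonempty D.ι)
  obtain ⟨⟨x, hx⟩, hx1⟩ := Subgroup.ne_bot_iff_exists_ne_one.mp (hX a)
  refine hx1 (Subtype.ext ?_)
  exact (Subgroup.eq_bot_iff_forall L).mp e x (hUL x (D.X_le a hx))

theorem meets_of_mem {M : Subgroup G} {g : G} (hg : g ∈ M) : D.Meets M g :=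
  ⟨1, one_mem _, 1, one_mem _, by simpa using hg⟩

theorem meets_mul {M : Subgroup G} {u u' g : G} (hu : u ∈ D.U) (hu' : u' ∈ D.U)
    (h : D.Meets M (u * g * u')) : D.Meets M g := by
  obtain ⟨v, hv, v', hv', hM⟩ := h
  exact ⟨v * u, mul_mem hv hu, u' * v', mul_mem hu' hv', by simpa [mul_assoc] using hM⟩

section Overgroup

variable {M K : Subgroup G} [K.Normal] (hMK : M ≤ K) (hUM : D.U ⊓ K ≤ M)
  (hX : ∀ a, ∃ x ∈ D.X a, x ∈ K ∧ x ≠ 1)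
  (hproj : ∀ a, ∀ u ∈ D.U, ∃ k ∈ D.U ⊓ K, D.n a * (k * u⁻¹) * (D.n a)⁻¹ ∈ D.U)

include hUM in
theorem conj_U_mem {u k : G} (hu : u ∈ D.U) (hk : k ∈ D.U ⊓ K) : u * k * u⁻¹ ∈ M :=
  hUM (Subgroup.mem_inf.mpr ⟨mul_mem (mul_mem hu hk.1) (inv_mem hu), ‹K.Normal›.conj_mem k hk.2 u⟩)

include hMK hUM hX hproj in
/-- Descending in length. -/
theorem meets_step {a : D.ι} {m h : G} (hh : h ∈ D.H) (hm : ∀ x ∈ D.X a, m * x * m⁻¹ ∈ D.U)
    (hM : D.Meets M (m * h * D.n a)) :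
    (∃ h' ∈ D.H, D.Meets M (h' * D.n a)) ∧ ∃ h' ∈ D.H, D.Meets M (m * h') := by
  obtain ⟨u, hu, u', hu', hg⟩ := hM
  obtain ⟨x, hx, hxK, hx1⟩ := hX a
  obtain ⟨u₁, hu₁, h₁, hh₁, u₂, hu₂, e⟩ := D.rankOne a x hx hx1
  set n := D.n a
  set g := u * (m * h * n) * u'
  -- a conjugate of the root element lies in `M`
  have hzK : u'⁻¹ * (n⁻¹ * x * n) * u' ∈ K := by
    have h1 := ‹K.Normal›.conj_mem _ hxK (n⁻¹)
    have h2 := ‹K.Normal›.conj_mem _ h1 (u'⁻¹)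
    simpa [mul_assoc] using h2
  have hz : u'⁻¹ * (n⁻¹ * x * n) * u' ∈ M := by
    have h1 : g * (u'⁻¹ * (n⁻¹ * x * n) * u') * g⁻¹ ∈ M := by
      refine hUM (Subgroup.mem_inf.mpr ⟨?_, ‹K.Normal›.conj_mem _ hzK g⟩)
      rw [show g * (u'⁻¹ * (n⁻¹ * x * n) * u') * g⁻¹ = u * (m * (h * x * h⁻¹) * m⁻¹) * u⁻¹ by
        simp only [g]; group]
      exact mul_mem (mul_mem hu (hm _ (D.HX a h hh x hx))) (inv_mem hu)
    have h2 := mul_mem (mul_mem (inv_mem hg) h1) hg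
    simpa [mul_assoc] using h2
  rw [e] at hz
  refine ⟨⟨h₁, hh₁, ⟨u'⁻¹ * u₁, mul_mem (inv_mem hu') hu₁, u₂ * u', mul_mem hu₂ hu',
    by simpa [mul_assoc] using hz⟩⟩, ?_⟩
  -- correct by an element of `U ⊓ K`
  obtain ⟨k, hk, hkr⟩ := hproj a u₂ hu₂
  have hw : g * (u'⁻¹ * k * u') * (u'⁻¹ * (u₁ * h₁ * n * u₂) * u')⁻¹ ∈ M := by
    refine mul_mem (mul_mem hg ?_) (inv_mem hz)
    simpa using D.conj_U_mem hUM (inv_mem hu') hk
  have e2 : g * (u'⁻¹ * k * u') * (u'⁻¹ * (u₁ * h₁ * n * u₂) * u')⁻¹ =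
      u * (m * (h * h₁⁻¹)) * ((h₁ * (n * (k * u₂⁻¹) * n⁻¹) * h₁⁻¹) * (u₁⁻¹ * u')) := by
    simp only [g]; group
  rw [e2] at hw
  exact ⟨h * h₁⁻¹, mul_mem hh (inv_mem hh₁), ⟨u, hu, _,
    mul_mem (D.HU h₁ hh₁ _ hkr) (mul_mem (inv_mem hu₁) hu'), hw⟩⟩

include hMK hUM hX hproj in
/-- An overgroup of a maximal unipotent group lies in a parabolic subgroup. -/
theorem le_parabolic (g : G) (hg : D.Meets M g) :
    g ∈ Subgroup.closure ((D.U : Set G) ∪ D.H ∪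
      {y | ∃ a, y = D.n a ∧ ∃ h ∈ D.H, D.Meets M (h * D.n a)}) := by
  set P := Subgroup.closure ((D.U : Set G) ∪ D.H ∪
      {y | ∃ a, y = D.n a ∧ ∃ h ∈ D.H, D.Meets M (h * D.n a)})
  have hU : ∀ u ∈ D.U, u ∈ P := fun u hu => Subgroup.subset_closure (Or.inl (Or.inl hu))
  have hH : ∀ u ∈ D.H, u ∈ P := fun u hu => Subgroup.subset_closure (Or.inl (Or.inr hu))
  refine D.induct (fun g => D.Meets M g → g ∈ P) (fun h hh _ => hH h hh) ?_ ?_ g hg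
  · exact fun u hu u' hu' g ih hg => mul_mem (mul_mem (hU u hu) (ih (D.meets_mul hu hu' hg))) (hU u' hu')
  · intro a m ih hm h hh hg
    obtain ⟨hJ, h', hh', hM'⟩ := D.meets_step hMK hUM hX hproj hh hm hg
    have h1 : m ∈ P := by
      have := mul_mem (ih h' hh' hM') (inv_mem (hH h' hh'))
      rwa [mul_inv_cancel_right] at this
    exact mul_mem (mul_mem h1 (hH h hh)) (Subgroup.subset_closure (Or.inr ⟨a, rfl, hJ⟩))

include hMK hUM hX hproj in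
/-- Without normal `p`-subgroups, all simple reflections are met. -/
theorem meets_all [Finite G] [Fact p.Prime] (hrad : ∀ a, D.rad a ⊓ K ≠ ⊥)
    (hcore : ∀ R : Subgroup G, IsPGroup p R → R ≤ M → M ≤ Subgroup.normalizer (R : Set G) → R = ⊥)
    (a : D.ι) : ∃ h ∈ D.H, D.Meets M (h * D.n a) := by
  by_contra hne
  refine hrad a (hcore _ ((D.pU.to_le (D.rad_le a)).to_le inf_le_left)
    (le_trans (inf_le_inf_right K (D.rad_le a)) hUM) fun g hg => ?_)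
  have h1 : g ∈ Subgroup.normalizer (D.rad a : Set G) := by
    refine (Subgroup.closure_le _).mpr ?_ (D.le_parabolic hMK hUM hX hproj g (D.meets_of_mem hg))
    rintro y ((hy | hy) | ⟨b, rfl, hb⟩)
    · exact D.rad_U a hy
    · exact D.rad_H a hy
    · exact D.rad_n a b fun e => hne (e ▸ hb)
  rw [Subgroup.mem_normalizer_iff] at h1 ⊢
  intro y
  simp only [Subgroup.mem_inf]
  refine and_congr (h1 y) ⟨fun hy => ‹K.Normal›.conj_mem y hy g, fun hy => ?_⟩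
  simpa [mul_assoc] using ‹K.Normal›.conj_mem _ hy g⁻¹

include hMK hUM hX hproj in
/-- With trivial torus, all double cosets are met. -/
theorem meets_everything (hH : D.H = ⊥) (hall : ∀ a, ∃ h ∈ D.H, D.Meets M (h * D.n a)) (g : G) :
    D.Meets M g := by
  refine D.induct (fun g => D.Meets M g) ?_ ?_ ?_ g
  · intro h hh
    rw [hH, Subgroup.mem_bot] at hh
    exact hh ▸ D.meets_of_mem (one_mem M)
  · intro u hu u' hu' g hg
    obtain ⟨v, hv, v', hv', hM⟩ := hg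
    exact ⟨v * u⁻¹, mul_mem hv (inv_mem hu), u'⁻¹ * v', mul_mem (inv_mem hu') hv',
      by simpa [mul_assoc] using hM⟩
  · intro a m ih hm h hh
    rw [hH, Subgroup.mem_bot] at hh
    subst hh
    obtain ⟨u, hu, u', hu', hgm⟩ := ih 1 (one_mem _)
    obtain ⟨h', hh', u₃, hu₃, u₄, hu₄, hz⟩ := hall a
    rw [hH, Subgroup.mem_bot] at hh'
    subst hh'
    rw [mul_one] at hgm
    rw [one_mul] at hz
    obtain ⟨k, hk, hkr⟩ := hproj a (u' * u₃)⁻¹ (inv_mem (mul_mem hu' hu₃))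
    rw [inv_inv] at hkr
    have hsq : D.n a * D.n a = 1 := by have := D.sq a; rwa [hH, Subgroup.mem_bot] at this
    have hni : (D.n a)⁻¹ = D.n a := inv_eq_of_mul_eq_one_right hsq
    have hw : u * m * u' * (u'⁻¹ * k * u') * (u₃ * D.n a * u₄) ∈ M :=
      mul_mem (mul_mem hgm (by simpa using D.conj_U_mem hUM (inv_mem hu') hk)) hz
    have e : u * m * u' * (u'⁻¹ * k * u') * (u₃ * D.n a * u₄) =
        u * (m * 1 * D.n a) * ((D.n a)⁻¹ * (k * (u' * u₃)) * D.n a * u₄) := by group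
    rw [e] at hw
    rw [hni] at hw
    rw [hni] at hkr
    exact ⟨u, hu, _, mul_mem hkr hu₄, hw⟩

end Overgroup

/-- An overgroup of `U` without normal `p`-subgroups is the whole group. -/
theorem eq_top_of_overgroup [IsSimpleGroup G] [Nonempty D.ι] [Finite G] [Fact p.Prime] (hX : ∀ a, D.X a ≠ ⊥) (hrad : ∀ a, D.rad a ≠ ⊥)
    (M : Subgroup G) (hUM : D.U ≤ M)
    (hcore : ∀ R : Subgroup G, IsPGroup p R → R ≤ M → M ≤ Subgroup.normalizer (R : Set G) → R = ⊥) :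
    M = ⊤ := by
  have hX' : ∀ a, ∃ x ∈ D.X a, x ∈ (⊤ : Subgroup G) ∧ x ≠ 1 := fun a => by
    obtain ⟨x, hx, hx1⟩ := (Subgroup.ne_bot_iff_exists_ne_one.mp (hX a)) |> fun ⟨⟨x, hx⟩, h⟩ =>
      (⟨x, hx, fun e => h (Subtype.ext e)⟩ : ∃ x, x ∈ D.X a ∧ x ≠ 1)
    exact ⟨x, hx, Subgroup.mem_top x, hx1⟩
  have hproj : ∀ a, ∀ u ∈ D.U, ∃ k ∈ D.U ⊓ ⊤, D.n a * (k * u⁻¹) * (D.n a)⁻¹ ∈ D.U := fun a u hu =>
    ⟨u, ⟨hu, Subgroup.mem_top u⟩, by simp⟩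
  have hUM' : D.U ⊓ ⊤ ≤ M := inf_le_left.trans hUM
  rw [eq_top_iff, ← D.gen hX, opGen, Subgroup.closure_le]
  rintro y (hy | ⟨a, x, hx, rfl⟩)
  · exact hUM hy
  obtain ⟨h, hh, u, hu, u', hu', hM⟩ := D.meets_all le_top hUM' hX' hproj
    (fun a => by rw [inf_top_eq]; exact hrad a) hcore a
  have h1 : h * D.n a ∈ M := by
    have := mul_mem (mul_mem (inv_mem (hUM hu)) hM) (inv_mem (hUM hu'))
    simpa [mul_assoc] using this
  have h2 := mul_mem (mul_mem (inv_mem h1) (hUM (D.X_le a (D.HX a h hh x hx)))) h1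
  simpa [mul_assoc] using h2

theorem eq_top_of_index' [IsSimpleGroup G] [Nonempty D.ι] [Finite G] [Fact p.Prime] (hX : ∀ a, D.X a ≠ ⊥) (hrad : ∀ a, D.rad a ≠ ⊥)
    (M : Subgroup G) (hM : Cfsg.pCore p ↥M = ⊥) (hidx : ¬ p ∣ M.index) : M = ⊤ := by
  refine eq_top_of_index D.U D.pU (fun N hN hcore _ => D.eq_top_of_overgroup hX hrad N hN hcore) M hM hidx

section Opposite

/-- The opposite unipotent group. -/
def V (n0 : G) : Subgroup G := cj n0 D.U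

variable {n0 : G} (hVY : ∀ a, ∀ x ∈ D.X a, (D.n a)⁻¹ * x * D.n a ∈ D.V n0) (hX : ∀ a, D.X a ≠ ⊥)

include hVY hX in
/-- The opposite group meets every double coset. -/
theorem exists_opp_mem (g : G) : ∃ v ∈ D.V n0, ∃ u ∈ D.U, ∃ h ∈ D.H, ∃ u' ∈ D.U, v = u * (g * h) * u' := by
  refine D.induct (fun g => ∃ v ∈ D.V n0, ∃ u ∈ D.U, ∃ h ∈ D.H, ∃ u' ∈ D.U, v = u * (g * h) * u') ?_ ?_ ?_ g
  · exact fun h hh => ⟨1, one_mem _, 1, one_mem _, h⁻¹, inv_mem hh, 1, one_mem _, by group⟩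
  · rintro u hu u' hu' g ⟨v, hv, v₁, hv₁, h, hh, v₂, hv₂, e⟩
    refine ⟨v, hv, v₁ * u⁻¹, mul_mem hv₁ (inv_mem hu), h, hh, (h⁻¹ * u'⁻¹ * h) * v₂,
      mul_mem (by simpa using D.HU h⁻¹ (inv_mem hh) u'⁻¹ (inv_mem hu')) hv₂, ?_⟩
    rw [e]; group
  · intro a m ih hm h hh
    obtain ⟨v, hv, u, hu, h₁, hh₁, u', hu', e⟩ := ih 1 (one_mem _)
    obtain ⟨⟨x, hx⟩, hx1⟩ := Subgroup.ne_bot_iff_exists_ne_one.mp (hX a)
    obtain ⟨u₁, hu₁, h₂, hh₂, u₂, hu₂, ey⟩ := D.rankOne a x hx fun e => hx1 (Subtype.ext e)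
    obtain ⟨x₁, hx₁, hr⟩ := D.split a _ (mul_mem hu' hu₁)
    set n := D.n a
    refine ⟨_, mul_mem hv (hVY a x hx), u * (m * (h₁ * x₁ * h₁⁻¹) * m⁻¹),
      mul_mem hu (hm _ (D.HX a h₁ hh₁ x₁ hx₁)), n⁻¹ * (h⁻¹ * (h₁ * h₂)) * n,
      D.Hn' a _ (mul_mem (inv_mem hh) (mul_mem hh₁ hh₂)),
      ((n⁻¹ * h₂ * n)⁻¹ * (n⁻¹ * (x₁⁻¹ * (u' * u₁)) * n) * (n⁻¹ * h₂ * n)) * u₂,
      mul_mem (by simpa using D.HU _ (inv_mem (D.Hn' a h₂ hh₂)) _ hr) hu₂, ?_⟩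
    rw [e, ey]; group

include hX in
/-- Rigidity. -/
theorem eq_one_of_fix [IsSimpleGroup G] [Nonempty D.ι] [Finite G] [Fact p.Prime] (hVY : ∀ a, ∀ x ∈ D.X a, (D.n a)⁻¹ * x * D.n a ∈ D.V n0)
    (hHV : ∀ h ∈ D.H, cj h (D.V n0) = D.V n0) (hUV : D.U ⊓ D.V n0 = ⊥)
    (hbig : ∀ g : G, (∃ z ∈ D.U, z ≠ 1 ∧ g⁻¹ * z * g ∈ D.U) ∨
      ∃ u ∈ D.U, ∃ h, cj h (D.V n0) = D.V n0 ∧ ∃ u' ∈ D.U, g = u * h * n0 * u')
    (α : MulAut G) (hα : ¬ p ∣ orderOf α) (S : Sylow p G) (hfix : ∀ x ∈ (S : Subgroup G), α x = x) :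
    α = 1 := by
  have hcjU : ∀ u ∈ D.U, cj u D.U = D.U := fun u hu => by
    ext x
    rw [mem_cj]
    exact ⟨fun h => by simpa [mul_assoc] using mul_mem (mul_mem hu h) (inv_mem hu),
      fun h => mul_mem (mul_mem (inv_mem hu) h) hu⟩
  -- the only `p`-subgroups normalised by elements of the other group are trivial
  have key : ∀ (P : Subgroup G), IsPGroup p P → ¬ p ∣ P.index → ∀ z : G,
      IsPGroup p (Subgroup.zpowers z) → cj z P = P → z ∈ P := by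
    intro P hP hidx z hz hzP
    have hle : Subgroup.zpowers z ≤ Subgroup.normalizer (P : Set G) := by
      rw [Subgroup.zpowers_le, Subgroup.mem_normalizer_iff]
      intro y
      conv_rhs => rw [← hzP, mem_cj]
      simp [mul_assoc]
    have h2 := (hP.toSylow hidx).is_maximal' (hP.to_sup_of_normal_left' hz hle) le_sup_left
    have h3 : P ⊔ Subgroup.zpowers z = P := h2
    exact h3 ▸ Subgroup.mem_sup_right (Subgroup.mem_zpowers z)
  have hpV : IsPGroup p (D.V n0) := D.pU.map _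
  have hidxV : ¬ p ∣ (D.V n0).index := by
    rw [V, cj, Subgroup.index_map_of_bijective (f := (MulAut.conj n0).toMonoidHom) (MulAut.conj n0).bijective]
    exact D.idxU
  obtain ⟨v, hv, u, hu, h, hh, u', hu', ev⟩ := D.exists_opp_mem hVY hX n0
  -- move the torus element to the left
  obtain ⟨u₁, hu₁, h₁, hh₁, u₂, hu₂, hb⟩ : ∃ u₁ ∈ D.U, ∃ h₁, cj h₁ (D.V n0) = D.V n0 ∧
      ∃ u₂ ∈ D.U, v = u₁ * h₁ * n0 * u₂ := by
    rcases hbig v with ⟨z, hz, hz1, hzv⟩ | ⟨u₁, hu₁, h₁, hh₁, u₂, hu₂, hb⟩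
    · exfalso
      have hw : (u⁻¹ * z * u) ∈ D.U := mul_mem (mul_mem (inv_mem hu) hz) hu
      refine hz1 ?_
      have hV : u⁻¹ * z * u ∈ D.V n0 := by
        rw [V, mem_cj]
        have h1 : u' * (v⁻¹ * z * v) * u'⁻¹ ∈ D.U := mul_mem (mul_mem hu' hzv) (inv_mem hu')
        rw [ev] at h1
        have h2 := D.HU h hh _ h1
        simpa [mul_assoc] using h2
      have h3 : u⁻¹ * z * u ∈ D.U ⊓ D.V n0 := ⟨hw, hV⟩
      rw [hUV, Subgroup.mem_bot] at h3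
      simpa [mul_assoc] using congrArg (fun t => u * t * u⁻¹) h3
    · exact ⟨u₁, hu₁, h₁, hh₁, u₂, hu₂, hb⟩
  refine eq_one_of_fix_sylow D.U D.pU (fun β hβ hfixU => ?_) α hα S hfix
  refine eq_one_of_fix_opposite (p := p) D.U (D.V n0) D.pU n0 rfl (fun g hg => ?_) (fun z hz hzV => ?_)
    (fun z hz hzU => ?_) v hv u₁ hu₁ ?_ ?_ β hβ hfixU
  · rcases hbig g with ⟨z, hz, hz1, hzg⟩ | ⟨u, hu, h, hh, u', hu', rfl⟩
    · refine absurd (hg z hz ?_) hz1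
      rw [show z = g * (g⁻¹ * z * g) * g⁻¹ by group, ← cj_mul, inv_mul_cancel_right, cj_mul,
        hcjU _ hzg]
    · refine ⟨u, hu, ?_⟩
      rw [cj_mul, hcjU u' hu', cj_mul, cj_mul, ← V, hh]
  · have h1 : z ∈ D.U ⊓ D.V n0 :=
      ⟨hz, key _ hpV hidxV z (D.pU.to_le (Subgroup.zpowers_le.mpr hz)) hzV⟩
    rwa [hUV, Subgroup.mem_bot] at h1
  · have h1 : z ∈ D.U ⊓ D.V n0 :=
      ⟨key _ D.pU D.idxU z (hpV.to_le (Subgroup.zpowers_le.mpr hz)) hzU, hz⟩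
    rwa [hUV, Subgroup.mem_bot] at h1
  · rw [hb, cj_mul, hcjU u₂ hu₂, cj_mul, cj_mul, ← V, hh₁]
  · rw [eq_top_iff, ← D.gen hX, opGen, Subgroup.closure_le]
    rintro y (hy | ⟨a, x, hx, rfl⟩)
    · exact Subgroup.mem_sup_left hy
    · exact Subgroup.mem_sup_right (hVY a x hx)

end Opposite

end SplitData

end CfsgLib.LieRigid
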